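import Groth.Agent.Lib.KerDiag14.Basic
import Groth.Agent.Lib.Thickening.Morphisms
import Groth.Agent.Lib.UnramLoc9.DualPoints
import Groth.Agent.Lib.EtSite.RadicialEtale

/-!
Morphisms into etale schemes extend uniquely along thickenings.
-/

universe u

open CategoryTheory CategoryTheory.Limits AlgebraicGeometry

set_option backward.isDefEq.respectTransparency false

namespace GrothLib.CentralTor14

/-- A morphism into an etale scheme extends along a surjective closed immersion. -/
theorem exists_lift {H₀ H F S : Scheme.{u}} (i : H₀ ⟶ H) [IsClosedImmersion i] [Surjective i] (p : F ⟶ S) [Etale p]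
    (g : H ⟶ S) (t₀ : H₀ ⟶ F) (w : i ≫ g = t₀ ≫ p) : ∃ t : H ⟶ F, i ≫ t = t₀ ∧ t ≫ p = g := by
  let q : pullback g p ⟶ H := pullback.fst g p
  haveI : Etale q := MorphismProperty.pullback_fst _ _ ‹_›
  let m : pullback q i ⟶ pullback g p := pullback.fst q i
  let σ : H₀ ⟶ pullback q i := pullback.lift (pullback.lift i t₀ w) (𝟙 H₀) (by simp [q])
  haveI : Etale (pullback.snd q i) := MorphismProperty.pullback_snd _ _ ‹_›
  haveI : IsOpenImmersion σ := KerDiag14.isOpenImmersion_section (pullback.snd q i) σ (pullback.lift_snd _ _ _)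
  haveI : IsClosedImmersion m := MorphismProperty.pullback_fst _ _ ‹_›
  haveI : Surjective m := MorphismProperty.pullback_fst _ _ ‹_›
  have hopen : IsOpen (Set.range (σ ≫ m)) := by
    have he : IsHomeomorph m := isHomeomorph_iff_isEmbedding_surjective.mpr ⟨m.isClosedEmbedding.isEmbedding, m.surjective⟩
    change IsOpen (Set.range (m ∘ σ))
    rw [Set.range_comp]
    exact he.isOpenMap _ σ.isOpenEmbedding.isOpen_range
  let V : (pullback g p).Opens := ⟨_, hopen⟩
  let s : H₀ ⟶ (V : Scheme.{u}) := IsOpenImmersion.lift V.ι (σ ≫ m) (by rw [Scheme.Opens.range_ι]; rfl)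
  have hs : s ≫ V.ι = σ ≫ m := IsOpenImmersion.lift_fac _ _ _
  haveI : Etale (V.ι ≫ q) := inferInstance
  have hfac : s ≫ V.ι ≫ q = i := by
    rw [← Category.assoc, hs]
    simp [σ, m, q]
  haveI : Surjective s := ⟨fun v => by
    obtain ⟨a, ha⟩ := v.2
    refine ⟨a, V.ι.injective ?_⟩
    rw [← Scheme.Hom.comp_apply, hs]
    exact ha⟩
  haveI : UniversallyInjective (V.ι ≫ q) := by
    have h : UniversallyInjective (s ≫ V.ι ≫ q) := by rw [hfac]; infer_instance
    rw [UniversallyInjective.iff_diagonal] at h ⊢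
    let n := pullback.map (s ≫ V.ι ≫ q) (s ≫ V.ι ≫ q) (V.ι ≫ q) (V.ι ≫ q) s s (𝟙 _) (by simp) (by simp)
    haveI : Surjective n := MorphismProperty.pullbackMap (P := @Surjective) ‹_› ‹_› (by simp) (by simp)
    haveI : Surjective (s ≫ pullback.diagonal (V.ι ≫ q)) := by
      rw [show s ≫ pullback.diagonal (V.ι ≫ q) = pullback.diagonal (s ≫ V.ι ≫ q) ≫ n from by
        apply pullback.hom_ext <;> simp [n]]
      infer_instance
    exact Surjective.of_comp s _
  haveI := GrothLib.EtSite.isOpenImmersion_of_etale_universallyInjective (V.ι ≫ q)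
  haveI : Surjective (V.ι ≫ q) := by
    haveI : Surjective (s ≫ V.ι ≫ q) := by rw [hfac]; infer_instance
    exact Surjective.of_comp s _
  haveI : IsIso (V.ι ≫ q) := (isIso_iff_isOpenImmersion_and_surjective _).mpr ⟨inferInstance, inferInstance⟩
  refine ⟨inv (V.ι ≫ q) ≫ V.ι ≫ pullback.snd g p, ?_, ?_⟩
  · have : i ≫ inv (V.ι ≫ q) = s := by rw [IsIso.comp_inv_eq]; exact hfac.symm
    rw [← Category.assoc, this, ← Category.assoc, hs]
    simp [σ, m, q]
  · rw [Category.assoc, Category.assoc, ← pullback.condition, ← Category.assoc V.ι, IsIso.inv_hom_id_assoc]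

/-- Morphisms into an unramified scheme agreeing on a thickening agree. -/
theorem hom_ext {H₀ H F S : Scheme.{u}} (i : H₀ ⟶ H) [Surjective i] (p : F ⟶ S) [Etale p] (a b : H ⟶ F)
    (h : a ≫ p = b ≫ p) (hi : i ≫ a = i ≫ b) : a = b :=
  UnramLoc9.hom_ext_of_thickening p i a b h hi

end GrothLib.CentralTor14
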