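import Groth.Agent.Lib.CentralTor14.EtalePow
import Groth.Agent.Lib.CentralTor14.EtaleLift

/-!
Central points of order invertible on the base extend uniquely along thickenings.
-/

universe u

open CategoryTheory CategoryTheory.Limits MonoidalCategory CartesianMonoidalCategory MonObj GrpObj
open AlgebraicGeometry

set_option backward.isDefEq.respectTransparency false

namespace GrothLib.CentralTor14

variable {S : Scheme.{u}} {G : Over S} [GrpObj G] {Z Z' Z₀ : Over S}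

theorem IsCentralPt.comp {a : Z ⟶ G} (ha : IsCentralPt G a) (p : Z' ⟶ Z) : IsCentralPt G (p ≫ a) := by
  intro X q g
  rw [← Category.assoc]
  exact ha X (q ≫ p) g

theorem pow_left (a : Z ⟶ G) (n : ℕ) : (a ^ n).left = a.left ≫ (𝟙 G ^ n).left := by
  rw [← Over.comp_left, ← zpow_natCast (𝟙 G), GrpObj.comp_zpow, Category.comp_id, zpow_natCast]

theorem one_left : (1 : Z ⟶ G).left = Z.hom ≫ η[G].left := by
  rw [Hom.one_def, Over.comp_left, Over.toUnit_left]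

/-- An open part of an object over the base. -/
noncomputable def openPart (Z : Over S) (W : Z.left.Opens) : Over S := Over.mk (W.ι ≫ Z.hom)

/-- The inclusion of an open part. -/
noncomputable def openIncl (Z : Over S) (W : Z.left.Opens) : openPart Z W ⟶ Z := Over.homMk W.ι rfl

theorem natCast_ne_zero_of_ringHom {K L : Type*} [Field K] [Field L] (φ : K →+* L) {n : ℕ} (h : (n : K) ≠ 0) :
    (n : L) ≠ 0 := fun h' => h (φ.injective ((map_natCast φ n).trans (h'.trans (map_zero φ).symm)))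

/-- Locally killed by an integer prime to the residue characteristics. -/
def TorsionLike (a : Z ⟶ G) : Prop :=
  ∀ z : Z.left, ∃ (W : Z.left.Opens) (n : ℕ), z ∈ W ∧ (∀ w ∈ W, (n : Z.left.residueField w) ≠ 0) ∧
    (openIncl Z W ≫ a) ^ n = 1

theorem pow_comp (p : Z' ⟶ Z) (a : Z ⟶ G) (n : ℕ) : (p ≫ a) ^ n = p ≫ a ^ n := by
  rw [← zpow_natCast, ← zpow_natCast, GrpObj.comp_zpow]

theorem TorsionLike.comp {a : Z ⟶ G} (ha : TorsionLike a) (p : Z' ⟶ Z) : TorsionLike (p ≫ a) := by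
  intro z
  obtain ⟨W, n, hz, hn, h⟩ := ha (p.left z)
  refine ⟨p.left ⁻¹ᵁ W, n, hz, fun w hw => natCast_ne_zero_of_ringHom (p.left.residueFieldMap w).hom (hn _ hw), ?_⟩
  let q : openPart Z' (p.left ⁻¹ᵁ W) ⟶ openPart Z W := Over.homMk (p.left ∣_ W) (by
    change (p.left ∣_ W) ≫ W.ι ≫ Z.hom = (p.left ⁻¹ᵁ W).ι ≫ Z'.hom
    rw [morphismRestrict_ι_assoc, Over.w p])
  have hq : openIncl Z' (p.left ⁻¹ᵁ W) ≫ p ≫ a = q ≫ openIncl Z W ≫ a := by
    rw [← Category.assoc, ← Category.assoc q]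
    congr 1
    exact Over.OverMorphism.ext (morphismRestrict_ι _ _).symm
  rw [hq, pow_comp, h, MonObj.comp_one]

theorem TorsionLike.postcomp {H : Over S} [GrpObj H] {a : Z ⟶ H} (ha : TorsionLike a) (u : H ⟶ G) [IsMonHom u] :
    TorsionLike (a ≫ u) := by
  intro z
  obtain ⟨W, n, hz, hn, h⟩ := ha z
  refine ⟨W, n, hz, hn, ?_⟩
  let Φ : (openPart Z W ⟶ H) →* (openPart Z W ⟶ G) :=
    { toFun := fun f => f ≫ u
      map_one' := by rw [Hom.one_def, Category.assoc, IsMonHom.one_hom, ← Hom.one_def]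
      map_mul' := fun f g => MonObj.mul_comp f g u }
  rw [← Category.assoc]
  exact (map_pow Φ _ n).symm.trans ((congrArg Φ h).trans Φ.map_one)

theorem TorsionLike.conj {a : Z ⟶ G} (ha : TorsionLike a) (g : Z ⟶ G) : TorsionLike (g * a * g⁻¹) := by
  intro z
  obtain ⟨W, n, hz, hn, h⟩ := ha z
  refine ⟨W, n, hz, hn, ?_⟩
  rw [MonObj.comp_mul, MonObj.comp_mul, GrpObj.comp_inv, conj_pow, h, _root_.mul_one, mul_inv_cancel]

theorem TorsionLike.mul {a b : Z ⟶ G} (ha : TorsionLike a) (hb : TorsionLike b) (hab : Commute a b) :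
    TorsionLike (a * b) := by
  intro z
  obtain ⟨W₁, n₁, hz₁, hn₁, h₁⟩ := ha z
  obtain ⟨W₂, n₂, hz₂, hn₂, h₂⟩ := hb z
  refine ⟨W₁ ⊓ W₂, n₁ * n₂, ⟨hz₁, hz₂⟩, fun w hw => ?_, ?_⟩
  · rw [Nat.cast_mul]
    exact mul_ne_zero (hn₁ w hw.1) (hn₂ w hw.2)
  let q₁ : openPart Z (W₁ ⊓ W₂) ⟶ openPart Z W₁ := Over.homMk (Z.left.homOfLE inf_le_left) (by
    change Z.left.homOfLE _ ≫ W₁.ι ≫ Z.hom = (W₁ ⊓ W₂).ι ≫ Z.hom
    rw [Scheme.homOfLE_ι_assoc])
  let q₂ : openPart Z (W₁ ⊓ W₂) ⟶ openPart Z W₂ := Over.homMk (Z.left.homOfLE inf_le_right) (by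
    change Z.left.homOfLE _ ≫ W₂.ι ≫ Z.hom = (W₁ ⊓ W₂).ι ≫ Z.hom
    rw [Scheme.homOfLE_ι_assoc])
  have e₁ : openIncl Z (W₁ ⊓ W₂) = q₁ ≫ openIncl Z W₁ := Over.OverMorphism.ext (Z.left.homOfLE_ι (by simp)).symm
  have e₂ : openIncl Z (W₁ ⊓ W₂) = q₂ ≫ openIncl Z W₂ := Over.OverMorphism.ext (Z.left.homOfLE_ι (by simp)).symm
  have k₁ : (openIncl Z (W₁ ⊓ W₂) ≫ a) ^ n₁ = 1 := by
    rw [e₁, Category.assoc, pow_comp, h₁, MonObj.comp_one]
  have k₂ : (openIncl Z (W₁ ⊓ W₂) ≫ b) ^ n₂ = 1 := by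
    rw [e₂, Category.assoc, pow_comp, h₂, MonObj.comp_one]
  rw [MonObj.comp_mul]
  have hc : Commute (openIncl Z (W₁ ⊓ W₂) ≫ a) (openIncl Z (W₁ ⊓ W₂) ≫ b) := by
    rw [Commute, SemiconjBy, ← MonObj.comp_mul, ← MonObj.comp_mul, hab.eq]
  rw [hc.mul_pow, pow_mul, k₁, one_pow, _root_.one_mul, _root_.mul_comm n₁, pow_mul, k₂, one_pow]

variable (G) in
/-- The open set where the power map is etale. -/
noncomputable def powLocus (n : ℕ) : G.left.Opens :=
  ⨆ U : {U : G.left.Opens // Etale (U.ι ≫ (𝟙 G ^ n).left)}, U.1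

theorem etale_powLocus (n : ℕ) : Etale ((powLocus G n).ι ≫ (𝟙 G ^ n).left) := by
  rw [IsZariskiLocalAtSource.iff_of_iSup_eq_top (P := @Etale)
    (fun U : {U : G.left.Opens // Etale (U.ι ≫ (𝟙 G ^ n).left)} => (powLocus G n).ι ⁻¹ᵁ U.1) (by
      rw [← Scheme.Hom.preimage_iSup]
      exact top_le_iff.mp fun x _ => x.2)]
  intro U
  haveI := U.2
  rw [← morphismRestrict_ι_assoc]
  infer_instance

theorem mem_powLocus [Flat G.hom] [LocallyOfFinitePresentation G.hom] {a : Z ⟶ G} (ha : IsCentralPt G a) (z : Z.left)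
    {n : ℕ} (hn : (n : Z.left.residueField z) ≠ 0) : a.left z ∈ powLocus G n := by
  let p : Over.mk (Z.left.fromSpecResidueField z ≫ Z.hom) ⟶ Z := Over.homMk (Z.left.fromSpecResidueField z) rfl
  obtain ⟨U, hU, hU'⟩ := etale_nhd G n (L := Z.left.residueField z) hn _ (p ≫ a) (ha.comp p)
    (IsLocalRing.closedPoint _)
  refine TopologicalSpace.Opens.mem_iSup.mpr ⟨⟨U, hU'⟩, ?_⟩
  have h1 : (p ≫ a).left (IsLocalRing.closedPoint (Z.left.residueField z)) = a.left z := by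
    rw [Over.comp_left, Scheme.Hom.comp_apply]
    exact congrArg (fun x => a.left x) (Scheme.fromSpecResidueField_apply z _)
  rwa [← h1]

variable [Flat G.hom] [LocallyOfFinitePresentation G.hom]

/-- Uniqueness of torsion extensions along a surjection which is central there. -/
theorem ext_thick (j : Z₀ ⟶ Z) [Surjective j.left] {a b : Z ⟶ G} (ha : TorsionLike a) (hb : TorsionLike b)
    (hab : j ≫ a = j ≫ b) (hc : IsCentralPt G (j ≫ a)) : a = b := by
  apply Over.OverMorphism.ext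
  refine Scheme.hom_ext_of_forall _ _ fun z => ?_
  obtain ⟨W₁, n₁, hz₁, hn₁, h₁⟩ := ha z
  obtain ⟨W₂, n₂, hz₂, hn₂, h₂⟩ := hb z
  let n := n₁ * n₂
  obtain ⟨z₀, hz₀⟩ := j.left.surjective z
  have hpt : ∀ w₀ : Z₀.left, a.left (j.left w₀) = b.left (j.left w₀) := fun w₀ => by
    rw [← Scheme.Hom.comp_apply, ← Over.comp_left, hab, Over.comp_left, Scheme.Hom.comp_apply]
  let W : Z.left.Opens := W₁ ⊓ W₂ ⊓ a.left ⁻¹ᵁ powLocus G n ⊓ b.left ⁻¹ᵁ powLocus G n
  have hn : ∀ w ∈ W₁ ⊓ W₂, (n : Z.left.residueField w) ≠ 0 := fun w hw => by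
    rw [Nat.cast_mul]
    exact mul_ne_zero (hn₁ w hw.1) (hn₂ w hw.2)
  have hza : a.left z ∈ powLocus G n := by
    have := mem_powLocus hc z₀ (n := n)
      (natCast_ne_zero_of_ringHom (j.left.residueFieldMap z₀).hom (hn _ (hz₀.symm ▸ ⟨hz₁, hz₂⟩)))
    rwa [Over.comp_left, Scheme.Hom.comp_apply, hz₀] at this
  have hzW : z ∈ W := ⟨⟨⟨hz₁, hz₂⟩, hza⟩, by
    show b.left z ∈ powLocus G n
    rwa [← hz₀, ← hpt, hz₀]⟩
  refine ⟨W, hzW, ?_⟩
  haveI := etale_powLocus (G := G) n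
  let f := (powLocus G n).ι ≫ (𝟙 G ^ n).left
  let la : (W : Scheme.{u}) ⟶ (powLocus G n : Scheme.{u}) :=
    IsOpenImmersion.lift (powLocus G n).ι (W.ι ≫ a.left) (by
      rw [Scheme.Opens.range_ι]; rintro _ ⟨w, rfl⟩; exact w.2.1.2)
  let lb : (W : Scheme.{u}) ⟶ (powLocus G n : Scheme.{u}) :=
    IsOpenImmersion.lift (powLocus G n).ι (W.ι ≫ b.left) (by
      rw [Scheme.Opens.range_ι]; rintro _ ⟨w, rfl⟩; exact w.2.2)
  have hla : la ≫ (powLocus G n).ι = W.ι ≫ a.left := IsOpenImmersion.lift_fac _ _ _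
  have hlb : lb ≫ (powLocus G n).ι = W.ι ≫ b.left := IsOpenImmersion.lift_fac _ _ _
  rw [← hla, ← hlb]
  congr 1
  haveI : Surjective (j.left ∣_ W) := IsZariskiLocalAtTarget.restrict (P := @Surjective) ‹_› _
  refine hom_ext (j.left ∣_ W) f la lb ?_ ?_
  · have key : ∀ (c : Z ⟶ G), ((openIncl Z W) ≫ c) ^ n = 1 →
        W.ι ≫ c.left ≫ (𝟙 G ^ n).left = (openPart Z W).hom ≫ η[G].left := fun c hc => by
      rw [← Category.assoc, show W.ι ≫ c.left = (openIncl Z W ≫ c).left from rfl, ← pow_left, hc, one_left]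
    have shrink : ∀ (W' : Z.left.Opens) (hle : W ≤ W') (c : Z ⟶ G) (m : ℕ), (openIncl Z W' ≫ c) ^ m = 1 →
        (openIncl Z W ≫ c) ^ m = 1 := fun W' hle c m h => by
      let q : openPart Z W ⟶ openPart Z W' := Over.homMk (Z.left.homOfLE hle) (by
        change Z.left.homOfLE hle ≫ W'.ι ≫ Z.hom = W.ι ≫ Z.hom
        rw [Scheme.homOfLE_ι_assoc])
      rw [show openIncl Z W = q ≫ openIncl Z W' from Over.OverMorphism.ext (Z.left.homOfLE_ι hle).symm,
        Category.assoc, pow_comp, h, MonObj.comp_one]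
    show la ≫ (powLocus G n).ι ≫ (𝟙 G ^ n).left = lb ≫ (powLocus G n).ι ≫ (𝟙 G ^ n).left
    rw [← Category.assoc, hla, ← Category.assoc lb, hlb, Category.assoc, Category.assoc,
      key a (by rw [pow_mul, shrink W₁ (fun w hw => hw.1.1.1) a n₁ h₁, one_pow]),
      key b (by rw [show n = n₂ * n₁ from _root_.mul_comm _ _, pow_mul, shrink W₂ (fun w hw => hw.1.1.2) b n₂ h₂, one_pow])]
  · rw [← cancel_mono (powLocus G n).ι, Category.assoc, Category.assoc, hla, hlb, morphismRestrict_ι_assoc,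
      morphismRestrict_ι_assoc, ← Over.comp_left, ← Over.comp_left, hab]

/-- Existence of torsion extensions of central torsion points along a thickening. -/
theorem exists_thick (j : Z₀ ⟶ Z) [IsClosedImmersion j.left] [Surjective j.left] (a₀ : Z₀ ⟶ G)
    (hc : IsCentralPt G a₀) (ht : TorsionLike a₀) : ∃ a : Z ⟶ G, TorsionLike a ∧ j ≫ a = a₀ := by
  have hho : IsHomeomorph j.left :=
    isHomeomorph_iff_isEmbedding_surjective.mpr ⟨j.left.isClosedEmbedding.isEmbedding, j.left.surjective⟩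
  have loc : ∀ z : Z.left, ∃ (W : Z.left.Opens) (n : ℕ) (aW : openPart Z W ⟶ G), z ∈ W ∧
      (∀ w ∈ W, (n : Z.left.residueField w) ≠ 0) ∧ aW ^ n = 1 ∧
      ∀ (T : Over S) (p : T ⟶ openPart Z W) (p₀ : T ⟶ Z₀), p₀ ≫ j = p ≫ openIncl Z W → p ≫ aW = p₀ ≫ a₀ := by
    intro z
    obtain ⟨z₀, rfl⟩ := j.left.surjective z
    obtain ⟨W₀, n, hz₀, hn, h⟩ := ht z₀
    let W : Z.left.Opens := ⟨j.left '' W₀, hho.isOpenMap _ W₀.2⟩
    have hW : ∀ w₀ ∈ j.left ⁻¹ᵁ W, w₀ ∈ W₀ := fun w₀ hw => by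
      obtain ⟨w₁, hw₁, he⟩ := hw
      exact j.left.isClosedEmbedding.injective he ▸ hw₁
    have hnW : ∀ w ∈ W, (n : Z.left.residueField w) ≠ 0 := by
      rintro _ ⟨w₀, hw₀, rfl⟩ h0
      exact hn w₀ hw₀ (by rw [← map_natCast (j.left.residueFieldMap w₀).hom, h0, map_zero])
    let e₀ : openPart Z₀ (j.left ⁻¹ᵁ W) ⟶ openPart Z₀ W₀ := Over.homMk (Z₀.left.homOfLE hW) (by
      change Z₀.left.homOfLE hW ≫ W₀.ι ≫ Z₀.hom = (j.left ⁻¹ᵁ W).ι ≫ Z₀.hom
      rw [Scheme.homOfLE_ι_assoc])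
    have he₀ : openIncl Z₀ (j.left ⁻¹ᵁ W) = e₀ ≫ openIncl Z₀ W₀ := Over.OverMorphism.ext (Z₀.left.homOfLE_ι hW).symm
    have h0 : (openIncl Z₀ (j.left ⁻¹ᵁ W) ≫ a₀) ^ n = 1 := by
      rw [he₀, Category.assoc, pow_comp, h, MonObj.comp_one]
    haveI := etale_powLocus (G := G) n
    let f := (powLocus G n).ι ≫ (𝟙 G ^ n).left
    have hη : η[G].left ≫ G.hom = 𝟙 S := Over.w η[G]
    let la : (j.left ⁻¹ᵁ W : Scheme.{u}) ⟶ (powLocus G n : Scheme.{u}) :=
      IsOpenImmersion.lift (powLocus G n).ι ((j.left ⁻¹ᵁ W).ι ≫ a₀.left) (by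
        rw [Scheme.Opens.range_ι]; rintro _ ⟨w, rfl⟩; exact mem_powLocus hc _ (hn _ (hW _ w.2)))
    have hla : la ≫ (powLocus G n).ι = (j.left ⁻¹ᵁ W).ι ≫ a₀.left := IsOpenImmersion.lift_fac _ _ _
    let t₀ : (j.left ⁻¹ᵁ W : Scheme.{u}) ⟶ pullback f η[G].left :=
      pullback.lift la ((j.left ⁻¹ᵁ W).ι ≫ Z₀.hom) (by
        show la ≫ (powLocus G n).ι ≫ (𝟙 G ^ n).left = _
        rw [← Category.assoc, hla, show (j.left ⁻¹ᵁ W).ι ≫ a₀.left = (openIncl Z₀ (j.left ⁻¹ᵁ W) ≫ a₀).left from rfl,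
          ← pow_left, h0, one_left]
        rfl)
    haveI : Surjective (j.left ∣_ W) := IsZariskiLocalAtTarget.restrict (P := @Surjective) ‹_› _
    haveI : Etale (pullback.snd f η[G].left) := MorphismProperty.pullback_snd _ _ (etale_powLocus (G := G) n)
    obtain ⟨t, ht₀, htp⟩ := exists_lift (j.left ∣_ W) (pullback.snd f η[G].left) (W.ι ≫ Z.hom) t₀ (by
      rw [morphismRestrict_ι_assoc, Over.w j]
      exact (pullback.lift_snd _ _ _).symm)
    have hcond : (t ≫ pullback.fst f η[G].left ≫ (powLocus G n).ι) ≫ (𝟙 G ^ n).left = (W.ι ≫ Z.hom) ≫ η[G].left := by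
      rw [Category.assoc, Category.assoc, show (powLocus G n).ι ≫ (𝟙 G ^ n).left = f from rfl, pullback.condition,
        reassoc_of% htp, Category.assoc]
    let aW : openPart Z W ⟶ G := Over.homMk (t ≫ pullback.fst f η[G].left ≫ (powLocus G n).ι) (by
      have := congrArg (· ≫ G.hom) hcond
      simp only [Category.assoc, Over.w (𝟙 G ^ n), hη, Category.comp_id] at this
      rw [Category.assoc, Category.assoc]
      exact this)
    refine ⟨W, n, aW, ⟨z₀, hz₀, rfl⟩, hnW, ?_, fun T p p₀ hp => ?_⟩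
    · apply Over.OverMorphism.ext
      rw [pow_left, one_left]
      exact hcond
    · have hr : Set.range p₀.left ⊆ Set.range (j.left ⁻¹ᵁ W).ι := by
        rw [Scheme.Opens.range_ι]
        rintro _ ⟨x, rfl⟩
        show j.left (p₀.left x) ∈ W
        rw [← Scheme.Hom.comp_apply, ← Over.comp_left, hp, Over.comp_left, Scheme.Hom.comp_apply]
        exact (p.left x).2
      let p' := IsOpenImmersion.lift (j.left ⁻¹ᵁ W).ι p₀.left hr
      have hp' : p' ≫ (j.left ⁻¹ᵁ W).ι = p₀.left := IsOpenImmersion.lift_fac _ _ _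
      have hpp : p' ≫ (j.left ∣_ W) = p.left := by
        rw [← cancel_mono W.ι, Category.assoc, morphismRestrict_ι, reassoc_of% hp']
        exact congrArg CommaMorphism.left hp
      apply Over.OverMorphism.ext
      show p.left ≫ t ≫ pullback.fst f η[G].left ≫ (powLocus G n).ι = p₀.left ≫ a₀.left
      rw [← hpp, Category.assoc, reassoc_of% ht₀, pullback.lift_fst_assoc, hla, reassoc_of% hp']
  choose W n aW hzW hnW hpow hfac using loc
  have htor : ∀ z, TorsionLike (aW z) := fun z w => by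
    refine ⟨⊤, n z, trivial, fun w' _ => natCast_ne_zero_of_ringHom ((W z).ι.residueFieldMap w').hom (hnW z _ w'.2), ?_⟩
    rw [pow_comp, hpow, MonObj.comp_one]
  have hagree : ∀ z z', (Z.left.homOfLE (inf_le_left : W z ⊓ W z' ≤ W z)) ≫ (aW z).left =
      (Z.left.homOfLE (inf_le_right : W z ⊓ W z' ≤ W z')) ≫ (aW z').left := fun z z' => by
    let q₁ : openPart Z (W z ⊓ W z') ⟶ openPart Z (W z) := Over.homMk (Z.left.homOfLE inf_le_left) (by
      change Z.left.homOfLE _ ≫ (W z).ι ≫ Z.hom = (W z ⊓ W z').ι ≫ Z.hom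
      rw [Scheme.homOfLE_ι_assoc])
    let q₂ : openPart Z (W z ⊓ W z') ⟶ openPart Z (W z') := Over.homMk (Z.left.homOfLE inf_le_right) (by
      change Z.left.homOfLE _ ≫ (W z').ι ≫ Z.hom = (W z ⊓ W z').ι ≫ Z.hom
      rw [Scheme.homOfLE_ι_assoc])
    let j' : openPart Z₀ (j.left ⁻¹ᵁ (W z ⊓ W z')) ⟶ openPart Z (W z ⊓ W z') :=
      Over.homMk (j.left ∣_ (W z ⊓ W z')) (by
        change (j.left ∣_ (W z ⊓ W z')) ≫ (W z ⊓ W z').ι ≫ Z.hom = (j.left ⁻¹ᵁ (W z ⊓ W z')).ι ≫ Z₀.hom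
        rw [morphismRestrict_ι_assoc, Over.w j])
    haveI : Surjective j'.left := IsZariskiLocalAtTarget.restrict (P := @Surjective) ‹_› _
    have hj' : openIncl Z₀ _ ≫ j = j' ≫ openIncl Z (W z ⊓ W z') :=
      Over.OverMorphism.ext (morphismRestrict_ι _ _).symm
    have hq₁ : q₁ ≫ openIncl Z (W z) = openIncl Z _ := Over.OverMorphism.ext (Z.left.homOfLE_ι inf_le_left)
    have hq₂ : q₂ ≫ openIncl Z (W z') = openIncl Z _ := Over.OverMorphism.ext (Z.left.homOfLE_ι inf_le_right)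
    have e₁ := hfac z _ (j' ≫ q₁) (openIncl Z₀ _) (by rw [Category.assoc, hq₁, hj'])
    have e₂ := hfac z' _ (j' ≫ q₂) (openIncl Z₀ _) (by rw [Category.assoc, hq₂, hj'])
    rw [Category.assoc] at e₁ e₂
    exact congrArg CommaMorphism.left (ext_thick j' ((htor z).comp q₁) ((htor z').comp q₂) (e₁.trans e₂.symm)
      (e₁.symm ▸ hc.comp _))
  let 𝒰 := Z.left.openCoverOfIsOpenCover W (top_le_iff.mp fun z _ => TopologicalSpace.Opens.mem_iSup.mpr ⟨z, hzW z⟩)
  let g : Z.left ⟶ G.left := 𝒰.glueMorphisms (fun z => (aW z).left) fun z z' => by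
    have hc₂ := (isPullback_opens_inf (W z) (W z')).isoPullback
    rw [← cancel_epi (isPullback_opens_inf (W z) (W z')).isoPullback.hom]
    simp only [← Category.assoc]
    erw [IsPullback.isoPullback_hom_fst, IsPullback.isoPullback_hom_snd]
    exact hagree z z'
  have hg : ∀ z, (W z).ι ≫ g = (aW z).left := fun z => 𝒰.ι_glueMorphisms _ _ z
  let a : Z ⟶ G := Over.homMk g (𝒰.hom_ext _ _ fun z => by
    rw [← Category.assoc]
    exact (congrArg (· ≫ G.hom) (hg z)).trans (Over.w (aW z)))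
  have ha : ∀ z, openIncl Z (W z) ≫ a = aW z := fun z => Over.OverMorphism.ext (hg z)
  refine ⟨a, fun z => ⟨W z, n z, hzW z, hnW z, by rw [ha, hpow]⟩, ?_⟩
  apply Over.OverMorphism.ext
  refine Scheme.hom_ext_of_forall _ _ fun x => ⟨j.left ⁻¹ᵁ W (j.left x), hzW _, ?_⟩
  let j' : openPart Z₀ (j.left ⁻¹ᵁ W (j.left x)) ⟶ openPart Z (W (j.left x)) :=
    Over.homMk (j.left ∣_ W (j.left x)) (by
      change (j.left ∣_ W (j.left x)) ≫ (W (j.left x)).ι ≫ Z.hom = (j.left ⁻¹ᵁ W (j.left x)).ι ≫ Z₀.hom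
      rw [morphismRestrict_ι_assoc, Over.w j])
  have hj' : openIncl Z₀ _ ≫ j = j' ≫ openIncl Z (W (j.left x)) := Over.OverMorphism.ext (morphismRestrict_ι _ _).symm
  have e := hfac _ _ j' (openIncl Z₀ _) hj'
  rw [← ha, ← Category.assoc, ← hj', Category.assoc] at e
  exact congrArg CommaMorphism.left e

end GrothLib.CentralTor14
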