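import Groth.Agent.Lib.CentralTor14.Core
import Groth.Agent.Lib.Neutral.Connected
import Groth.Agent.Lib.Rigidity.SmoothGroup

/-!
Rigidity: torsion points in the etale locus of a power map commute with groups with connected fibres.
-/

universe u

open CategoryTheory CategoryTheory.Limits MonoidalCategory CartesianMonoidalCategory MonObj GrpObj
open AlgebraicGeometry

set_option backward.isDefEq.respectTransparency false

namespace GrothLib.CentralTor14

open GrothLib.DiagGrp (bcPoint bcPointMulEquiv bcPoint_comp)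

variable {S : Scheme.{u}} {G : Over S} [GrpObj G] {Z : Over S}

/-- Torsion-like morphisms agreeing at a point of the etale locus agree nearby. -/
theorem agree_nhd {a b : Z ⟶ G} (z : Z.left) (W₀ : Z.left.Opens) (n : ℕ) (hz₀ : z ∈ W₀)
    (ha : (openIncl Z W₀ ≫ a) ^ n = 1) (hb : (openIncl Z W₀ ≫ b) ^ n = 1) (hza : a.left z ∈ powLocus G n)
    (hpt : Z.left.fromSpecResidueField z ≫ a.left = Z.left.fromSpecResidueField z ≫ b.left) :
    ∃ W : Z.left.Opens, z ∈ W ∧ W.ι ≫ a.left = W.ι ≫ b.left := by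
  let W : Z.left.Opens := W₀ ⊓ a.left ⁻¹ᵁ powLocus G n ⊓ b.left ⁻¹ᵁ powLocus G n
  have hab : a.left z = b.left z := by
    have := congrArg (fun f : Spec (Z.left.residueField z) ⟶ G.left => f (IsLocalRing.closedPoint _)) hpt
    simpa only [Scheme.Hom.comp_apply, Scheme.fromSpecResidueField_apply] using this
  have hzW : z ∈ W := ⟨⟨hz₀, hza⟩, by show b.left z ∈ powLocus G n; rwa [← hab]⟩
  haveI := etale_powLocus (G := G) n
  let f := (powLocus G n).ι ≫ (𝟙 G ^ n).left
  let la : (W : Scheme.{u}) ⟶ (powLocus G n : Scheme.{u}) :=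
    IsOpenImmersion.lift (powLocus G n).ι (W.ι ≫ a.left) (by
      rw [Scheme.Opens.range_ι]; rintro _ ⟨w, rfl⟩; exact w.2.1.2)
  let lb : (W : Scheme.{u}) ⟶ (powLocus G n : Scheme.{u}) :=
    IsOpenImmersion.lift (powLocus G n).ι (W.ι ≫ b.left) (by
      rw [Scheme.Opens.range_ι]; rintro _ ⟨w, rfl⟩; exact w.2.2)
  have hla : la ≫ (powLocus G n).ι = W.ι ≫ a.left := IsOpenImmersion.lift_fac _ _ _
  have hlb : lb ≫ (powLocus G n).ι = W.ι ≫ b.left := IsOpenImmersion.lift_fac _ _ _
  have key : ∀ (c : Z ⟶ G), ((openIncl Z W) ≫ c) ^ n = 1 →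
      W.ι ≫ c.left ≫ (𝟙 G ^ n).left = (openPart Z W).hom ≫ η[G].left := fun c hc => by
    rw [← Category.assoc, show W.ι ≫ c.left = (openIncl Z W ≫ c).left from rfl, ← pow_left, hc, one_left]
  have shrink : ∀ (W' : Z.left.Opens) (hle : W ≤ W') (c : Z ⟶ G) (m : ℕ), (openIncl Z W' ≫ c) ^ m = 1 →
      (openIncl Z W ≫ c) ^ m = 1 := fun W' hle c m h => by
    let q : openPart Z W ⟶ openPart Z W' := Over.homMk (Z.left.homOfLE hle) (by
      change Z.left.homOfLE hle ≫ W'.ι ≫ Z.hom = W.ι ≫ Z.hom
      rw [Scheme.homOfLE_ι_assoc])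
    rw [show openIncl Z W = q ≫ openIncl Z W' from Over.OverMorphism.ext (Z.left.homOfLE_ι hle).symm,
      Category.assoc, pow_comp, h, MonObj.comp_one]
  have hw : la ≫ f = lb ≫ f := by
    show la ≫ (powLocus G n).ι ≫ (𝟙 G ^ n).left = lb ≫ (powLocus G n).ι ≫ (𝟙 G ^ n).left
    rw [← Category.assoc, hla, ← Category.assoc lb, hlb, Category.assoc, Category.assoc,
      key a (shrink W₀ (fun w hw => hw.1.1) a n ha), key b (shrink W₀ (fun w hw => hw.1.1) b n hb)]
  let v : (W : Scheme.{u}) ⟶ pullback f f := pullback.lift la lb hw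
  let E : (W : Scheme.{u}).Opens := v ⁻¹ᵁ (pullback.diagonal f).opensRange
  have hzE : (⟨z, hzW⟩ : (W : Scheme.{u})) ∈ E := by
    let p : Spec (Z.left.residueField z) ⟶ (W : Scheme.{u}) :=
      IsOpenImmersion.lift W.ι (Z.left.fromSpecResidueField z) (by
        rw [Scheme.Opens.range_ι]
        rintro _ ⟨w, rfl⟩
        rw [Scheme.fromSpecResidueField_apply]
        exact hzW)
    have hp : p ≫ W.ι = Z.left.fromSpecResidueField z := IsOpenImmersion.lift_fac _ _ _
    have h0 : p (IsLocalRing.closedPoint _) = ⟨z, hzW⟩ := by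
      apply W.ι.injective
      rw [← Scheme.Hom.comp_apply, hp]
      exact Scheme.fromSpecResidueField_apply z _
    have hl : p ≫ la = p ≫ lb := by
      rw [← cancel_mono (powLocus G n).ι, Category.assoc, Category.assoc, hla, hlb, reassoc_of% hp, reassoc_of% hp]
      exact hpt
    refine ⟨(p ≫ la) (IsLocalRing.closedPoint _), ?_⟩
    rw [← h0, ← Scheme.Hom.comp_apply, ← Scheme.Hom.comp_apply,
      show p ≫ v = (p ≫ la) ≫ pullback.diagonal f from by apply pullback.hom_ext <;> simp [v, hl]]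
  refine ⟨W.ι ''ᵁ E, ⟨⟨z, hzW⟩, hzE, rfl⟩, ?_⟩
  have hr : Set.range (E.ι ≫ v) ⊆ Set.range (pullback.diagonal f) := by
    rintro _ ⟨w, rfl⟩
    exact w.2
  have h1 := IsOpenImmersion.lift_fac (pullback.diagonal f) (E.ι ≫ v) hr
  have e1 := congrArg (· ≫ pullback.fst f f) h1
  have e2 := congrArg (· ≫ pullback.snd f f) h1
  simp only [Category.assoc, pullback.diagonal_fst, pullback.diagonal_snd, Category.comp_id, v,
    pullback.lift_fst, pullback.lift_snd] at e1 e2
  have hl : E.ι ≫ la = E.ι ≫ lb := e1.symm.trans e2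
  rw [← cancel_epi (W.ι.isoImage E).hom, ← Category.assoc, ← Category.assoc, Scheme.Hom.isoImage_hom_ι,
    Category.assoc, Category.assoc, ← hla, ← hlb, reassoc_of% hl]

/-- Rational points over an algebraically closed field land in every open subgroup-like set. -/
theorem exists_pt {L : Type u} [Field L] [IsAlgClosed L] {X : Scheme.{u}} (f : X ⟶ Spec (CommRingCat.of L))
    [LocallyOfFiniteType f] (U : X.Opens) (hU : (U : Set X).Nonempty) :
    ∃ x : Spec (CommRingCat.of L) ⟶ X, x ≫ f = 𝟙 _ ∧ x (IsLocalRing.closedPoint L) ∈ U := by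
  haveI := LocallyOfFiniteType.jacobsonSpace f
  obtain ⟨y, hy, hyc⟩ := nonempty_inter_closedPoints hU U.2.isLocallyClosed
  exact ⟨pointOfClosedPoint f y hyc, pointOfClosedPoint_comp f y hyc, by rw [pointOfClosedPoint_apply]; exact hy⟩

variable [Flat G.hom] [LocallyOfFinitePresentation G.hom]

/-- A morphism locally killed by integers for which it lands in the etale locus of the power map is central when
the fibres are connected. -/
theorem isCentralPt_of_connected (hconn : ∀ s : S, _root_.IsConnected (G.hom.base ⁻¹' {s})) {H : Over S} {u : H ⟶ G}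
    (hu : ∀ h : H.left, ∃ (W : H.left.Opens) (n : ℕ), h ∈ W ∧ (openIncl H W ≫ u) ^ n = 1 ∧ u.left h ∈ powLocus G n) :
    IsCentralPt G u := by
  let a : H ⊗ G ⟶ G := fst H G ≫ u
  let b : H ⊗ G ⟶ G := snd H G * a * (snd H G)⁻¹
  have hloc : ∀ z : (H ⊗ G).left, (H ⊗ G).left.fromSpecResidueField z ≫ a.left =
      (H ⊗ G).left.fromSpecResidueField z ≫ b.left →
      ∃ W : (H ⊗ G).left.Opens, z ∈ W ∧ W.ι ≫ a.left = W.ι ≫ b.left := fun z hpt => by
    obtain ⟨W₁, n, hW₁, hn, hmem⟩ := hu ((fst H G).left z)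
    let q : openPart (H ⊗ G) ((fst H G).left ⁻¹ᵁ W₁) ⟶ openPart H W₁ := Over.homMk ((fst H G).left ∣_ W₁) (by
      change ((fst H G).left ∣_ W₁) ≫ W₁.ι ≫ H.hom = ((fst H G).left ⁻¹ᵁ W₁).ι ≫ (H ⊗ G).hom
      rw [morphismRestrict_ι_assoc, Over.w (fst H G)])
    have hq : openIncl (H ⊗ G) ((fst H G).left ⁻¹ᵁ W₁) ≫ a = q ≫ openIncl H W₁ ≫ u := by
      rw [show a = fst H G ≫ u from rfl, ← Category.assoc, ← Category.assoc q]
      congr 1
      exact Over.OverMorphism.ext (morphismRestrict_ι _ _).symm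
    have ha : (openIncl (H ⊗ G) ((fst H G).left ⁻¹ᵁ W₁) ≫ a) ^ n = 1 := by
      rw [hq, pow_comp, hn, MonObj.comp_one]
    refine agree_nhd z _ n hW₁ ha ?_ (by rwa [Over.comp_left, Scheme.Hom.comp_apply]) hpt
    rw [MonObj.comp_mul, MonObj.comp_mul, GrpObj.comp_inv, conj_pow, ha, _root_.mul_one, mul_inv_cancel]
  suffices hab : a = b by
    intro X p g
    have h1 : a * snd H G = snd H G * a := by
      conv_lhs => rw [hab]
      rw [inv_mul_cancel_right]
    have h2 := congrArg (fun w => lift p g ≫ w) h1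
    simpa only [a, MonObj.comp_mul, lift_fst_assoc, lift_snd] using h2
  -- points with values in algebraically closed fields
  have hcomm : ∀ (L : Type u) [Field L] [IsAlgClosed L] (t : Spec (CommRingCat.of L) ⟶ S)
      (h : Over.mk t ⟶ H) (g : Over.mk t ⟶ G), (h ≫ u) * g = g * (h ≫ u) := by
    intro L _ _ t h g
    have loc : ∀ (g₁ : Over.mk t ⟶ G),
        Spec.map (CommRingCat.ofHom (RingHom.id L)) ≫ (lift h g₁ ≫ a).left = (lift h g₁ ≫ b).left →
        (h ≫ u) * g₁ = g₁ * (h ≫ u) := fun g₁ he => by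
      rw [show CommRingCat.ofHom (RingHom.id L) = 𝟙 _ from rfl, Spec.map_id, Category.id_comp] at he
      have he' := Over.OverMorphism.ext he
      simp only [a, b, MonObj.comp_mul, GrpObj.comp_inv, lift_fst_assoc, lift_snd] at he'
      exact eq_mul_inv_iff_mul_eq.mp he'
    let ze : Over.mk t ⟶ H ⊗ G := lift h 1
    have hze : ze ≫ a = ze ≫ b := by simp [a, b, ze, MonObj.comp_mul, GrpObj.comp_inv]
    obtain ⟨φ, hφ⟩ := exists_factor_residue (ze.left (IsLocalRing.closedPoint L)) ze.left rfl
    haveI : Flat φ := by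
      obtain ⟨ψ, rfl⟩ : ∃ ψ, Spec.map ψ = φ := ⟨Spec.preimage φ, Spec.map_preimage φ⟩
      rw [HasRingHomProperty.Spec_iff (P := @Flat)]
      letI := ψ.hom.toAlgebra
      exact (inferInstance : Module.Flat ((H ⊗ G).left.residueField (ze.left (IsLocalRing.closedPoint L))) L)
    haveI : Surjective φ := ⟨fun x => ⟨IsLocalRing.closedPoint L, Subsingleton.elim _ _⟩⟩
    haveI : Epi φ := Flat.epi_of_flat_of_surjective φ
    obtain ⟨W, hW, hWeq⟩ := hloc _ (by
      rw [← cancel_epi φ, reassoc_of% hφ, reassoc_of% hφ]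
      exact congrArg CommaMorphism.left hze)
    -- the base change to the field
    let Gt := Red.bc t G
    haveI : LocallyOfFiniteType Gt.hom := inferInstanceAs (LocallyOfFiniteType (pullback.snd G.hom t))
    haveI : ConnectedSpace Gt.left := by
      let k := S.fromSpecResidueField (t (IsLocalRing.closedPoint L))
      haveI : ConnectedSpace ↥(Red.bc k G).left := by
        have := hconn (t (IsLocalRing.closedPoint L))
        haveI := isConnected_iff_connectedSpace.mp this
        exact (G.hom.fiberHomeo (t (IsLocalRing.closedPoint L))).symm.surjective.connectedSpace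
          (G.hom.fiberHomeo _).symm.continuous
      haveI := GrothLib.Neutral.geometricallyConnected_of_point (k := S.residueField (t (IsLocalRing.closedPoint L)))
        (Red.bc k G).hom η[Red.bc k G].left (Over.w η[Red.bc k G])
      obtain ⟨t', ht'⟩ := exists_factor_residue _ t rfl
      haveI : GeometricallyConnected (pullback.snd (Red.bc k G).hom t') :=
        MorphismProperty.pullback_snd _ _ ‹_›
      haveI : Nonempty ↥(pullback (Red.bc k G).hom t') := by
        obtain ⟨w, -, -⟩ := Scheme.Pullback.exists_preimage_pullback (f := (Red.bc k G).hom) (g := t')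
          (η[Red.bc k G].left (IsLocalRing.closedPoint _)) (IsLocalRing.closedPoint L)
          (Subsingleton.elim (α := ↥(Spec (CommRingCat.of (S.residueField (t (IsLocalRing.closedPoint L)))))) _ _)
        exact ⟨w⟩
      haveI : ConnectedSpace ↥(pullback (Red.bc k G).hom t') :=
        GeometricallyConnected.connectedSpace_of_subsingleton (f := pullback.snd (Red.bc k G).hom t')
      have sq : IsPullback (pullback.fst (Red.bc k G).hom t' ≫ pullback.fst G.hom k)
          (pullback.snd (Red.bc k G).hom t') G.hom t := by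
        convert (IsPullback.of_hasPullback (Red.bc k G).hom t').paste_horiz (IsPullback.of_hasPullback G.hom k) using 1
        exact ht'.symm
      exact sq.isoPullback.hom.surjective.connectedSpace sq.isoPullback.hom.continuous
    haveI := GrothLib.Rigidity.irreducibleSpace_of_connected Gt
    let T1 : (Over.map t).obj (𝟙_ (Over (Spec (CommRingCat.of L)))) ≅ Over.mk t :=
      Over.isoMk (Iso.refl _) ((Category.id_comp _).trans (Category.id_comp _).symm)
    let toL : (Over.map t).obj Gt ⟶ Over.mk t := Over.homMk Gt.hom rfl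
    let rG : (Over.map t).obj Gt ⟶ G := (bcPoint t G Gt).symm (𝟙 Gt)
    let σ : (Over.map t).obj Gt ⟶ H ⊗ G := lift (toL ≫ h) rG
    let pt : (Over.mk t ⟶ G) → (𝟙_ (Over (Spec (CommRingCat.of L))) ⟶ Gt) := fun x => bcPoint t G _ (T1.hom ≫ x)
    have hpt : ∀ x, (Over.map t).map (pt x) ≫ σ = T1.hom ≫ lift h x := fun x => by
      apply CartesianMonoidalCategory.hom_ext
      · simp only [σ, Category.assoc, lift_fst]
        rw [← Category.assoc]
        congr 1
        exact Over.OverMorphism.ext ((Over.w (pt x)).trans (Category.id_comp _).symm)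
      · simp only [σ, Category.assoc, lift_snd]
        apply (bcPoint t G _).injective
        rw [bcPoint_comp, Equiv.apply_symm_apply, Category.comp_id]
    let WL : Gt.left.Opens := σ.left ⁻¹ᵁ W
    have hgood : ∀ x, (pt x).left (IsLocalRing.closedPoint L) ∈ WL → (h ≫ u) * x = x * (h ≫ u) := fun x hx => by
      apply loc
      rw [show CommRingCat.ofHom (RingHom.id L) = 𝟙 _ from rfl, Spec.map_id, Category.id_comp]
      have hl : (lift h x).left = (pt x).left ≫ σ.left :=
        (Category.id_comp _).symm.trans (congrArg CommaMorphism.left (hpt x)).symm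
      have hr : Set.range (lift h x).left ⊆ Set.range W.ι := by
        rw [Scheme.Opens.range_ι]
        rintro _ ⟨w, rfl⟩
        rw [hl, Scheme.Hom.comp_apply]
        exact (Subsingleton.elim (α := ↥(Spec (CommRingCat.of L))) (IsLocalRing.closedPoint L) w) ▸ hx
      show (lift h x).left ≫ a.left = (lift h x).left ≫ b.left
      rw [← IsOpenImmersion.lift_fac W.ι (lift h x).left hr, Category.assoc, Category.assoc, hWeq]
    have hne : (WL : Set Gt.left).Nonempty := by
      refine ⟨(pt 1).left (IsLocalRing.closedPoint L), ?_⟩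
      have e : (lift h 1).left = (pt 1).left ≫ σ.left :=
        (Category.id_comp _).symm.trans (congrArg CommaMorphism.left (hpt 1)).symm
      have e' := congrArg (fun f : Spec (CommRingCat.of L) ⟶ (H ⊗ G).left => f (IsLocalRing.closedPoint L)) e
      show σ.left ((pt 1).left (IsLocalRing.closedPoint L)) ∈ W
      exact ((Scheme.Hom.comp_apply _ _ _).symm.trans e'.symm) ▸ hW
    -- translate
    let y := pt g
    let lam : Gt ⟶ Gt := (toUnit Gt ≫ y) * 𝟙 Gt
    let lam' : Gt ⟶ Gt := (toUnit Gt ≫ y⁻¹) * 𝟙 Gt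
    have hlam : ∀ (x : 𝟙_ (Over (Spec (CommRingCat.of L))) ⟶ Gt), x ≫ lam = y * x := fun x => by
      simp only [lam, MonObj.comp_mul, Category.comp_id]
      rw [← Category.assoc, Subsingleton.elim (x ≫ toUnit Gt) (𝟙 _), Category.id_comp]
    have hinv : lam' ≫ lam = 𝟙 Gt := by simp [lam, lam', MonObj.comp_mul, GrpObj.comp_inv]
    haveI : Surjective lam.left := ⟨fun x => ⟨lam'.left x, by
      rw [← Scheme.Hom.comp_apply, ← Over.comp_left, hinv]; rfl⟩⟩
    have hne' : ((WL ⊓ lam.left ⁻¹ᵁ WL : Gt.left.Opens) : Set Gt.left).Nonempty := by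
      obtain ⟨w, hw⟩ := hne
      obtain ⟨w', hw'⟩ := lam.left.surjective w
      exact nonempty_preirreducible_inter WL.2 (lam.left ⁻¹ᵁ WL).2 ⟨w, hw⟩ ⟨w', show lam.left w' ∈ WL from hw'.symm ▸ hw⟩
    obtain ⟨x, hxf, hxW⟩ := exists_pt Gt.hom _ hne'
    let x' : 𝟙_ (Over (Spec (CommRingCat.of L))) ⟶ Gt := Over.homMk x hxf
    obtain ⟨x₀, hx₀⟩ : ∃ x₀, pt x₀ = x' :=
      ⟨T1.inv ≫ (bcPoint t G _).symm x', by simp [pt]⟩
    have hmul : pt (g * x₀) = y * x' := by
      rw [← hx₀]
      show bcPointMulEquiv t G _ (T1.hom ≫ (g * x₀)) = _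
      rw [MonObj.comp_mul, map_mul]
      rfl
    have c₁ : Commute (h ≫ u) x₀ := hgood x₀ (by rw [hx₀]; exact hxW.1)
    have c₂ : Commute (h ≫ u) (g * x₀) := hgood (g * x₀) (by
      rw [hmul, ← hlam, Over.comp_left, Scheme.Hom.comp_apply]
      exact hxW.2)
    have := c₂.mul_right c₁.inv_right
    rwa [mul_inv_cancel_right] at this
  apply Over.OverMorphism.ext
  refine Scheme.hom_ext_of_forall _ _ fun z => ?_
  let L : Type u := AlgebraicClosure ((H ⊗ G).left.residueField z)
  let ψ : Spec (CommRingCat.of L) ⟶ Spec ((H ⊗ G).left.residueField z) :=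
    Spec.map (CommRingCat.ofHom (algebraMap ((H ⊗ G).left.residueField z) L))
  let P : Over.mk ((ψ ≫ (H ⊗ G).left.fromSpecResidueField z) ≫ (H ⊗ G).hom) ⟶ H ⊗ G :=
    Over.homMk (ψ ≫ (H ⊗ G).left.fromSpecResidueField z) rfl
  have hP : P ≫ a = P ≫ b := by
    have := hcomm L _ (P ≫ fst H G) (P ≫ snd H G)
    simp only [a, b, MonObj.comp_mul, GrpObj.comp_inv]
    exact eq_mul_inv_iff_mul_eq.mpr (by simpa only [Category.assoc] using this)
  haveI : Flat ψ := by
    rw [HasRingHomProperty.Spec_iff (P := @Flat)]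
    exact RingHom.flat_algebraMap_iff.mpr inferInstance
  haveI : Surjective ψ := ⟨fun x => ⟨IsLocalRing.closedPoint L, Subsingleton.elim _ _⟩⟩
  haveI : Epi ψ := Flat.epi_of_flat_of_surjective ψ
  refine hloc z ((cancel_epi ψ).mp ?_)
  simpa only [P, Category.assoc, Over.comp_left, Over.homMk_left] using congrArg CommaMorphism.left hP

end GrothLib.CentralTor14
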