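import Groth.Agent.Lib.CentralTor14.Hom
import Groth.Agent.Lib.CentralTor14.Rigid
import Groth.Agent.Lib.MultDef14.Complete
import Groth.Agent.Lib.MultHopf14.Lift
import Groth.Agent.Lib.AlgSp.SliceLemmas

/-!
Central homomorphisms out of finite smooth groups with diagonalisable charts over a complete local ring.
-/

universe u

open CategoryTheory CategoryTheory.Limits MonoidalCategory CartesianMonoidalCategory MonObj GrpObj
open AlgebraicGeometry IsLocalRing
open scoped TensorProduct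

set_option backward.isDefEq.respectTransparency false

namespace GrothLib.CentralTor14

open GrothLib.DiagGrp (HasChartsFpqc bcPoint bcPointMulEquiv bcPoint_comp)
open GrothLib.MultDef14

theorem isCentralPt_of_thick {S : Scheme.{u}} {G : Over S} [GrpObj G] [Flat G.hom] [LocallyOfFinitePresentation G.hom]
    {Z Z₀ : Over S} (j : Z₀ ⟶ Z) [Surjective j.left] {v : Z ⟶ G} (hv : TorsionLike v) (hc : IsCentralPt G (j ≫ v)) :
    IsCentralPt G v := by
  let j' : Z₀ ⊗ G ⟶ Z ⊗ G := j ▷ G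
  haveI : Surjective j'.left := by
    haveI : Surjective (pullback.map Z₀.hom G.hom Z.hom G.hom j.left (𝟙 _) (𝟙 _) (by simp) (by simp)) :=
      MorphismProperty.pullbackMap (P := @Surjective) ‹_› inferInstance (by simp) (by simp)
    have he : j'.left = pullback.map Z₀.hom G.hom Z.hom G.hom j.left (𝟙 _) (𝟙 _) (by simp) (by simp) := by
      apply pullback.hom_ext (f := Z.hom) (g := G.hom)
      · exact (congrArg CommaMorphism.left (whiskerRight_fst j G)).trans (pullback.lift_fst _ _ _).symm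
      · exact (congrArg CommaMorphism.left (whiskerRight_snd j G)).trans
          ((Category.comp_id _).symm.trans (pullback.lift_snd _ _ _).symm)
    rw [he]; infer_instance
  let a : Z ⊗ G ⟶ G := fst Z G ≫ v
  have h1 : j' ≫ a = fst Z₀ G ≫ (j ≫ v) := by simp [j', a]
  have h2 : j' ≫ snd Z G = snd Z₀ G := by simp [j']
  have hb : a = snd Z G * a * (snd Z G)⁻¹ := by
    refine ext_thick j' (hv.comp _) ((hv.comp _).conj _) ?_ (h1 ▸ hc.comp _)
    rw [MonObj.comp_mul, MonObj.comp_mul, GrpObj.comp_inv, h1, h2, ← hc _ (fst Z₀ G) (snd Z₀ G),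
      mul_inv_cancel_right]
  intro X p g
  have h3 : a * snd Z G = snd Z G * a := by
    conv_lhs => rw [hb]
    rw [inv_mul_cancel_right]
  have h4 := congrArg (fun w => lift p g ≫ w) h3
  simpa only [a, MonObj.comp_mul, lift_fst_assoc, lift_snd] using h4

theorem a₀_mul {S S₀ : Scheme.{u}} (i : S₀ ⟶ S) [Mono i] {H G : Over S} [GrpObj H] [GrpObj G]
    (u₀ : Red.bc i H ⟶ Red.bc i G) [IsMonHom u₀] {X : Over S} (p₁ p₂ p₃ : X ⟶ (Over.map i).obj (Red.bc i H))
    (e : (p₁ ≫ res i H) * (p₂ ≫ res i H) = p₃ ≫ res i H) :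
    (p₁ ≫ a₀ i u₀) * (p₂ ≫ a₀ i u₀) = p₃ ≫ a₀ i u₀ := by
  have hs : ∀ p : X ⟶ (Over.map i).obj (Red.bc i H), p.left ≫ (Red.bc i H).hom = p₁.left ≫ (Red.bc i H).hom := fun p => by
    rw [← cancel_mono i, Category.assoc, Category.assoc]
    exact (Over.w p).trans (Over.w p₁).symm
  let X' : Over S₀ := Over.mk (p₁.left ≫ (Red.bc i H).hom)
  let pt : (X ⟶ (Over.map i).obj (Red.bc i H)) → (X' ⟶ Red.bc i H) := fun p => Over.homMk p.left (hs p)
  have hθ : ∀ p, (descIso i p₁).hom ≫ p = (Over.map i).map (pt p) := fun p =>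
    Over.OverMorphism.ext (Category.id_comp _)
  have hr : ∀ p, bcPointMulEquiv i H X' ((descIso i p₁).hom ≫ p ≫ res i H) = pt p := fun p => by
    rw [← Category.assoc, hθ]
    exact (bcPoint_comp i (pt p) (res i H)).trans (by rw [res, Equiv.apply_symm_apply, Category.comp_id])
  have ha : ∀ p, bcPointMulEquiv i G X' ((descIso i p₁).hom ≫ p ≫ a₀ i u₀) = pt p ≫ u₀ := fun p => by
    rw [← Category.assoc, hθ]
    exact (bcPoint_comp i (pt p) (a₀ i u₀)).trans (by rw [a₀, Equiv.apply_symm_apply])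
  apply (cancel_epi (descIso i p₁).hom).mp
  apply (bcPointMulEquiv i G X').injective
  rw [MonObj.comp_mul, map_mul, ha, ha, ha, ← MonObj.mul_comp _ _ u₀]
  congr 1
  rw [← hr, ← hr, ← hr, ← map_mul, ← MonObj.comp_mul, e]

theorem factor_comp_factor {R C : Type u} [CommRing R] [CommRing C] [Algebra R C] {K₁ K₂ K₃ : Ideal C}
    (h₁₂ : K₁ ≤ K₂) (h₂₃ : K₂ ≤ K₃) (h₁₃ : K₁ ≤ K₃) :
    (Ideal.Quotient.factorₐ R h₂₃).comp (Ideal.Quotient.factorₐ R h₁₂) = Ideal.Quotient.factorₐ R h₁₃ :=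
  Ideal.Quotient.algHom_ext R (AlgHom.ext fun _ => rfl)

theorem factor_comp_mk {R C : Type u} [CommRing R] [CommRing C] [Algebra R C] {K₁ K₂ : Ideal C} (h₁₂ : K₁ ≤ K₂) :
    (Ideal.Quotient.factorₐ R h₁₂).comp (Ideal.Quotient.mkₐ R K₁) = Ideal.Quotient.mkₐ R K₂ :=
  AlgHom.ext fun _ => rfl

theorem quotMap_comp_mk {R C C' : Type u} [CommRing R] [CommRing C] [Algebra R C] [CommRing C'] [Algebra R C']
    (J : Ideal R) (f : C →ₐ[R] C') :
    (quotMap J f).comp (Ideal.Quotient.mkₐ R (J.map (algebraMap R C))) =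
      (Ideal.Quotient.mkₐ R (J.map (algebraMap R C'))).comp f :=
  AlgHom.ext fun _ => rfl

theorem factor_comp_quotMap {R C C' : Type u} [CommRing R] [CommRing C] [Algebra R C] [CommRing C'] [Algebra R C']
    {J J' : Ideal R} (f : C →ₐ[R] C') (hC : J.map (algebraMap R C) ≤ J'.map (algebraMap R C))
    (hC' : J.map (algebraMap R C') ≤ J'.map (algebraMap R C')) :
    (Ideal.Quotient.factorₐ R hC').comp (quotMap J f) = (quotMap J' f).comp (Ideal.Quotient.factorₐ R hC) :=
  Ideal.Quotient.algHom_ext R (AlgHom.ext fun _ => rfl)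

theorem restrict_mul {R C C' : Type u} [CommRing R] [CommRing C] [Algebra R C] [CommRing C'] [Algebra R C']
    (J : Ideal R) {S : Scheme.{u}} {q : Spec (CommRingCat.of R) ⟶ S} {H : Over S} [GrpObj H] (h : aff q C ⟶ H)
    {f₁ f₂ f₃ : C →ₐ[R] C'} (e : affMap q f₃ ≫ h = (affMap q f₁ ≫ h) * (affMap q f₂ ≫ h)) :
    affMap q (quotMap J f₃) ≫ affMap q (Ideal.Quotient.mkₐ R _) ≫ h =
      (affMap q (quotMap J f₁) ≫ affMap q (Ideal.Quotient.mkₐ R _) ≫ h) *
        (affMap q (quotMap J f₂) ≫ affMap q (Ideal.Quotient.mkₐ R _) ≫ h) := by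
  rw [affMap_comp_assoc, affMap_comp_assoc, affMap_comp_assoc, quotMap_comp_mk, quotMap_comp_mk, quotMap_comp_mk,
    ← affMap_comp_assoc, ← affMap_comp_assoc, ← affMap_comp_assoc, e, MonObj.comp_mul]

variable {R : Type u} [CommRing R] [IsLocalRing R] [IsNoetherianRing R] [IsAdicComplete (maximalIdeal R) R]
variable {H G : Over (Spec (CommRingCat.of R))} [GrpObj H] [GrpObj G] [IsFinite H.hom] [Smooth H.hom]
variable [Flat G.hom] [LocallyOfFinitePresentation G.hom]
variable {Q : ∀ (M : Type), AddCommGroup M → Prop}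

/-- The closed point of the base. -/
noncomputable abbrev closedPart (R : Type u) [CommRing R] [IsLocalRing R] :
    Spec (CommRingCat.of (R ⧸ maximalIdeal R)) ⟶ Spec (CommRingCat.of R) :=
  Spec.map (CommRingCat.ofHom (Ideal.Quotient.mk (maximalIdeal R)))

/-- The factor map of reductions of a power of the maximal ideal is a thickening. -/
theorem thickening_factor {C : Type u} [CommRing C] [Algebra R C] (n : ℕ)
    (hK : (maximalIdeal R ^ (n + 1)).map (algebraMap R C) ≤ (maximalIdeal R).map (algebraMap R C)) :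
    IsClosedImmersion (affMap (𝟙 (Spec (CommRingCat.of R))) (Ideal.Quotient.factorₐ R hK)).left ∧
      Surjective (affMap (𝟙 (Spec (CommRingCat.of R))) (Ideal.Quotient.factorₐ R hK)).left := by
  have hs : Function.Surjective ((Ideal.Quotient.factorₐ R hK).toRingHom) := Ideal.Quotient.factor_surjective hK
  refine ⟨IsClosedImmersion.spec_of_surjective _ hs, ⟨fun x => ?_⟩⟩
  show x ∈ Set.range (PrimeSpectrum.comap (Ideal.Quotient.factorₐ R hK).toRingHom)
  rw [range_comap_of_surjective _ _ hs]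
  intro z hz
  obtain ⟨c, rfl⟩ := Ideal.Quotient.mk_surjective z
  refine x.2.mem_of_pow_mem (n + 1) ?_
  have hc : c ∈ (maximalIdeal R).map (algebraMap R C) := Ideal.Quotient.eq_zero_iff_mem.mp hz
  have := Ideal.pow_mem_pow hc (n + 1)
  rw [← Ideal.map_pow, ← Ideal.Quotient.eq_zero_iff_mem, map_pow] at this
  rw [this]
  exact zero_mem _

variable {B : Type u} [CommRing B] [Algebra R B] {h : aff (𝟙 (Spec (CommRingCat.of R))) B ⟶ H}

/-- The reduced point of a central homomorphism over the closed point. -/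
theorem exists_closed_pt (hH : HasChartsFpqc Q H) (hu : IsUniv (𝟙 (Spec (CommRingCat.of R))) h) (u₀ : Red.bc (closedPart R) H ⟶ Red.bc (closedPart R) G)
    [IsMonHom u₀] (hc₀ : IsCentralPt (Red.bc (closedPart R) G) u₀) :
    ∃ a₁ : aff (𝟙 (Spec (CommRingCat.of R))) (B ⧸ (maximalIdeal R).map (algebraMap R B)) ⟶ G,
      IsCentralPt G a₁ ∧ TorsionLike a₁ ∧
      IsHomPt (affMap _ (Ideal.Quotient.mkₐ R ((maximalIdeal R).map (algebraMap R B))) ≫ h) a₁ ∧
      ∀ w : H ⟶ G, (Over.pullback (closedPart R)).map w = u₀ ↔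
        (affMap _ (Ideal.Quotient.mkₐ R ((maximalIdeal R).map (algebraMap R B))) ≫ h) ≫ w = a₁ := by
  let i := closedPart R
  haveI : IsClosedImmersion i := IsClosedImmersion.spec_of_surjective _ Ideal.Quotient.mk_surjective
  let q := 𝟙 (Spec (CommRingCat.of R))
  haveI := isIso_univ hu
  haveI : IsIso h.left := inferInstanceAs (IsIso ((Over.forget _).map h))
  let J₁ : Ideal B := (maximalIdeal R).map (algebraMap R B)
  let mk₁ : B →ₐ[R] B ⧸ J₁ := Ideal.Quotient.mkₐ R J₁
  let σ : Spec (CommRingCat.of (B ⧸ J₁)) ⟶ Spec (CommRingCat.of (R ⧸ maximalIdeal R)) :=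
    Spec.map (CommRingCat.ofHom (Ideal.quotientMap J₁ (algebraMap R B) Ideal.le_comap_map))
  have sq : IsPullback (Spec.map (CommRingCat.ofHom (mk₁ : B →+* B ⧸ J₁)) ≫ h.left) σ H.hom i := by
    refine (AlgSp.isPullback_SpecMap_quotient (CommRingCat.ofHom (algebraMap R B)) (maximalIdeal R)).of_iso
      (Iso.refl _) (asIso h.left) (Iso.refl _) (Iso.refl _) ?_ ?_ ?_ ?_
    · simp; rfl
    · simp; rfl
    · simp only [Iso.refl_hom, Category.comp_id, asIso_hom]
      exact ((Over.w h).trans (Category.comp_id _)).symm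
    · simp; rfl
  let e : aff q (B ⧸ J₁) ≅ (Over.map i).obj (Over.mk σ) := Over.isoMk (Iso.refl _) (by
    change 𝟙 _ ≫ σ ≫ i = Spec.map _ ≫ 𝟙 _
    rw [Category.id_comp, Category.comp_id, ← Spec.map_comp, ← CommRingCat.ofHom_comp, Ideal.quotientMap_comp_mk]
    rfl)
  let j₁ : aff q (B ⧸ J₁) ⟶ H := affMap q mk₁ ≫ h
  let p' : Over.mk σ ⟶ Red.bc i H := bcPoint i H _ (e.inv ≫ j₁)
  have hp' : (Over.map i).map p' ≫ res i H = e.inv ≫ j₁ := (bcPoint i H _).injective (by
    rw [bcPoint_comp, res, Equiv.apply_symm_apply, Category.comp_id])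
  have hp'l : p'.left = sq.isoPullback.hom := by
    apply pullback.hom_ext
    · rw [IsPullback.isoPullback_hom_fst, bcPoint_left_fst]
      exact Category.id_comp _
    · rw [IsPullback.isoPullback_hom_snd]
      exact Over.w p'
  haveI : IsIso ((Over.forget _).map p') := by
    change IsIso p'.left
    rw [hp'l]; infer_instance
  haveI : IsIso p' := isIso_of_reflects_iso p' (Over.forget _)
  let P : aff q (B ⧸ J₁) ⟶ (Over.map i).obj (Red.bc i H) := e.hom ≫ (Over.map i).map p'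
  have hP : P ≫ res i H = j₁ := by rw [Category.assoc, hp', Iso.hom_inv_id_assoc]
  haveI : IsIso P := inferInstance
  have hT := torsionLike_id hH
  let a₁ : aff q (B ⧸ J₁) ⟶ G := P ≫ a₀ i u₀
  have hca : IsCentralPt G a₁ := (isCentralPt_a₀ i u₀ hc₀).comp P
  have hta : TorsionLike a₁ := (torsionLike_a₀ i u₀ hT).comp P
  have hmap : ∀ w : H ⟶ G, (Over.pullback i).map w = u₀ ↔ j₁ ≫ w = a₁ := fun w => by
    rw [map_eq_iff, ← hP, Category.assoc, cancel_epi]
  have ha₁ : IsHomPt j₁ a₁ := by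
    intro C _ _ f g k he
    have := a₀_mul i u₀ (affMap q f ≫ P) (affMap q g ≫ P) (affMap q k ≫ P) (by
      have hP2 : ∀ {X : Over (Spec (CommRingCat.of R))} (f : X ⟶ aff q (B ⧸ J₁)), (f ≫ P) ≫ res i H = f ≫ j₁ :=
        fun f => (Category.assoc _ _ _).trans (congrArg (f ≫ ·) hP)
      rw [hP2, hP2, hP2]
      exact he.symm)
    simpa only [a₁, Category.assoc] using this.symm
  exact ⟨a₁, hca, hta, ha₁, hmap⟩

/-- The lifted point. -/
theorem exists_point_complete [Module.Finite R B] (hu : IsUniv (𝟙 (Spec (CommRingCat.of R))) h)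
    (a₁ : aff (𝟙 (Spec (CommRingCat.of R))) (B ⧸ (maximalIdeal R).map (algebraMap R B)) ⟶ G)
    (hca : IsCentralPt G a₁) (hta : TorsionLike a₁)
    (ha₁ : IsHomPt (affMap _ (Ideal.Quotient.mkₐ R ((maximalIdeal R).map (algebraMap R B))) ≫ h) a₁) :
    ∃ a : aff (𝟙 (Spec (CommRingCat.of R))) B ⟶ G, IsHomPt h a ∧
      affMap _ (Ideal.Quotient.mkₐ R ((maximalIdeal R).map (algebraMap R B))) ≫ a = a₁ ∧
      ∀ w' : H ⟶ G, TorsionLike w' →
        (affMap _ (Ideal.Quotient.mkₐ R ((maximalIdeal R).map (algebraMap R B))) ≫ h) ≫ w' = a₁ → h ≫ w' = a := by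
  let q := 𝟙 (Spec (CommRingCat.of R))
  let J₁ : Ideal B := (maximalIdeal R).map (algebraMap R B)
  let mk₁ : B →ₐ[R] B ⧸ J₁ := Ideal.Quotient.mkₐ R J₁
  let j₁ : aff q (B ⧸ J₁) ⟶ H := affMap q mk₁ ≫ h
  obtain ⟨Δ, hΔ⟩ := hu.exists_isComul
  have hle : ∀ n : ℕ, (maximalIdeal R ^ (n + 1)).map (algebraMap R B) ≤ J₁ := fun n =>
    Ideal.map_mono (Ideal.pow_le_self n.succ_ne_zero)
  let jn : ∀ n, aff q (B ⧸ J₁) ⟶ aff q (B ⧸ (maximalIdeal R ^ (n + 1)).map (algebraMap R B)) := fun n =>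
    affMap q (Ideal.Quotient.factorₐ R (hle n))
  haveI : ∀ n, IsClosedImmersion (jn n).left := fun n => (thickening_factor n (hle n)).1
  haveI : ∀ n, Surjective (jn n).left := fun n => (thickening_factor n (hle n)).2
  choose v hvt hv using fun n => exists_thick (jn n) a₁ hca hta
  have hvc : ∀ n, IsCentralPt G (v n) := fun n => isCentralPt_of_thick (jn n) (hvt n) ((hv n).symm ▸ hca)
  let fac : ∀ n : ℕ, (B ⧸ (maximalIdeal R ^ (n + 1)).map (algebraMap R B)) →ₐ[R]
      B ⧸ (maximalIdeal R ^ n).map (algebraMap R B) := fun n =>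
    Ideal.Quotient.factorₐ R (Ideal.map_mono (Ideal.pow_le_pow_right n.le_succ))
  have hfac : ∀ n, affMap q (fac (n + 1)) ≫ v (n + 1) = v n := fun n => by
    refine ext_thick (jn n) ((hvt (n + 1)).comp _) (hvt n) ?_ ?_
    · rw [hv, affMap_comp_assoc, factor_comp_factor _ (hle n) (hle (n + 1)), hv]
    · rw [affMap_comp_assoc, factor_comp_factor _ (hle n) (hle (n + 1)), hv]
      exact hca
  let u : ∀ n : ℕ, aff q (B ⧸ (maximalIdeal R ^ n).map (algebraMap R B)) ⟶ G := fun n => affMap q (fac n) ≫ v n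
  obtain ⟨F, hF⟩ := LocalPts.exists_hom_finite (B := B) R (fun n => (u n).left) fun n =>
    congrArg CommaMorphism.left (show affMap q (fac n) ≫ u (n + 1) = u n from congrArg (affMap q (fac n) ≫ ·) (hfac n))
  have hw : F ≫ G.hom = (aff q B).hom := LocalPts.hom_ext_finite R _ _ fun n => by
    rw [← Category.assoc, hF n, Over.w (u n)]
    exact (Over.w (affMap q (Ideal.Quotient.mkₐ R ((maximalIdeal R ^ n).map (algebraMap R B))))).symm
  let a : aff q B ⟶ G := Over.homMk F hw
  have ha : ∀ n, affMap q (Ideal.Quotient.mkₐ R ((maximalIdeal R ^ n).map (algebraMap R B))) ≫ a = u n := fun n =>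
    Over.OverMorphism.ext (hF n)
  have hav : ∀ n, affMap q (Ideal.Quotient.mkₐ R ((maximalIdeal R ^ (n + 1)).map (algebraMap R B))) ≫ a = v n :=
    fun n => (ha (n + 1)).trans (hfac n)
  have ha1 : affMap q mk₁ ≫ a = a₁ := by
    rw [← hv 0, ← hav 0, affMap_comp_assoc]
    congr 2
  have hah : IsHomPt h a := isHomPt_of_comul hu hΔ (Over.OverMorphism.ext (LocalPts.hom_ext_finite R _ _ fun n => by
    refine congrArg CommaMorphism.left (?_ : affMap q (Ideal.Quotient.mkₐ R ((maximalIdeal R ^ n).map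
      (algebraMap R (B ⊗[R] B)))) ≫ (affMap q Δ ≫ a) = affMap q (Ideal.Quotient.mkₐ R ((maximalIdeal R ^ n).map
      (algebraMap R (B ⊗[R] B)))) ≫ ((affMap q Algebra.TensorProduct.includeLeft ≫ a) *
        (affMap q Algebra.TensorProduct.includeRight ≫ a)))
    let facT : (B ⊗[R] B) ⧸ (maximalIdeal R ^ (n + 1)).map (algebraMap R (B ⊗[R] B)) →ₐ[R]
        (B ⊗[R] B) ⧸ (maximalIdeal R ^ n).map (algebraMap R (B ⊗[R] B)) :=
      Ideal.Quotient.factorₐ R (Ideal.map_mono (Ideal.pow_le_pow_right n.le_succ))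
    rw [show Ideal.Quotient.mkₐ R ((maximalIdeal R ^ n).map (algebraMap R (B ⊗[R] B))) =
      facT.comp (Ideal.Quotient.mkₐ R _) from (factor_comp_mk _).symm, ← affMap_comp_assoc, ← affMap_comp_assoc]
    refine congrArg (affMap q facT ≫ ·) ?_
    have e : ∀ f : B →ₐ[R] B ⊗[R] B, (Ideal.Quotient.mkₐ R ((maximalIdeal R ^ (n + 1)).map
        (algebraMap R (B ⊗[R] B)))).comp f = (quotMap (maximalIdeal R ^ (n + 1)) f).comp (Ideal.Quotient.mkₐ R _) :=
      fun f => (quotMap_comp_mk _ f).symm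
    simp only [MonObj.comp_mul, affMap_comp_assoc, e]
    simp only [← affMap_comp_assoc, hav]
    have hleT : (maximalIdeal R ^ (n + 1)).map (algebraMap R (B ⊗[R] B)) ≤
        (maximalIdeal R).map (algebraMap R (B ⊗[R] B)) := Ideal.map_mono (Ideal.pow_le_self n.succ_ne_zero)
    let j := affMap q (Ideal.Quotient.factorₐ R hleT)
    haveI : Surjective j.left := (thickening_factor n hleT).2
    have e' : ∀ f : B →ₐ[R] B ⊗[R] B, j ≫ affMap q (quotMap (maximalIdeal R ^ (n + 1)) f) ≫ v n =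
        affMap q (quotMap (maximalIdeal R) f) ≫ a₁ := fun f => by
      rw [← hv n, affMap_comp_assoc, affMap_comp_assoc]
      congr 2
      exact factor_comp_quotMap f (hle n) hleT
    refine ext_thick j ((hvt n).comp _) (((hvt n).comp _).mul ((hvt n).comp _) ?_) ?_ ?_
    · exact hvc n _ _ _
    · rw [MonObj.comp_mul, e', e', e']
      exact ha₁ _ _ _ _ (restrict_mul (maximalIdeal R) h hΔ)
    · rw [e']
      exact hca.comp _))
  refine ⟨a, hah, ha1, fun w' ht' hm => ?_⟩
  refine Over.OverMorphism.ext (LocalPts.hom_ext_finite R _ _ fun n => ?_)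
  refine congrArg CommaMorphism.left (?_ : affMap q (Ideal.Quotient.mkₐ R ((maximalIdeal R ^ n).map
      (algebraMap R B))) ≫ h ≫ w' = affMap q (Ideal.Quotient.mkₐ R _) ≫ a)
  rw [show Ideal.Quotient.mkₐ R ((maximalIdeal R ^ n).map (algebraMap R B)) =
      (fac n).comp (Ideal.Quotient.mkₐ R _) from (factor_comp_mk _).symm, ← affMap_comp_assoc, ← affMap_comp_assoc, hav]
  refine congrArg (affMap q (fac n) ≫ ·) ?_
  have key : jn n ≫ affMap q (Ideal.Quotient.mkₐ R _) ≫ h ≫ w' = a₁ := by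
    rw [affMap_comp_assoc, factor_comp_mk (hle n)]
    exact (Category.assoc _ _ _).symm.trans hm
  rw [← Category.assoc]
  refine ext_thick (jn n) (ht'.comp _) (hvt n) ?_ ?_
  · rw [Category.assoc, hv, key]
  · rw [Category.assoc, key]
    exact hca

theorem exists_central_lift_complete (hH : HasChartsFpqc Q H)
    (u₀ : Red.bc (closedPart R) H ⟶ Red.bc (closedPart R) G) [IsMonHom u₀]
    (hc₀ : IsCentralPt (Red.bc (closedPart R) G) u₀) :
    ∃ w : H ⟶ G, IsMonHom w ∧ (Over.pullback (closedPart R)).map w = u₀ ∧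
      ∀ w' : H ⟶ G, IsMonHom w' → (Over.pullback (closedPart R)).map w' = u₀ → w' = w := by
  obtain ⟨B, _, _, h, hu⟩ := exists_isUniv (𝟙 (Spec (CommRingCat.of R))) H (EssFree.isAffineHom_of_charts hH)
  haveI := moduleFinite_univ hu
  haveI := isIso_univ hu
  obtain ⟨a₁, hca, hta, ha₁, hmap⟩ := exists_closed_pt hH hu u₀ hc₀
  obtain ⟨a, hah, ha1, huniq⟩ := exists_point_complete hu a₁ hca hta ha₁
  obtain ⟨w, hwm, hw'⟩ := exists_hom_of_homPt hu hah
  refine ⟨w, hwm, (hmap w).mpr (by rw [Category.assoc, hw', ha1]), fun w' hw'm hm => ?_⟩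
  haveI := hw'm
  rw [← cancel_epi h, hw']
  exact huniq w' (Category.id_comp w' ▸ (torsionLike_id hH).postcomp w') ((hmap w').mp hm)

/-- A lift of a central homomorphism is central when the fibres are connected. -/
theorem isCentralPt_lift_complete (hconn : ∀ s : ↥(Spec (CommRingCat.of R)), _root_.IsConnected (G.hom.base ⁻¹' {s}))
    (hH : HasChartsFpqc Q H) (u : H ⟶ G) [IsMonHom u]
    (hc₀ : IsCentralPt (Red.bc (closedPart R) G) ((Over.pullback (closedPart R)).map u)) :
    IsCentralPt G u := by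
  let i := closedPart R
  refine isCentralPt_of_connected hconn fun h => ?_
  obtain ⟨h0, hh0, hh0i⟩ : ∃ h0, h ⤳ h0 ∧ H.hom h0 ∈ Set.range i := by
    have hcl := H.hom.isClosedMap (closure {h}) isClosed_closure
    have hmem : closedPoint R ∈ H.hom '' closure {h} :=
      (IsLocalRing.specializes_closedPoint (H.hom h)).mem_closed hcl ⟨h, subset_closure rfl, rfl⟩
    obtain ⟨h0, hh0, he⟩ := hmem
    refine ⟨h0, specializes_iff_mem_closure.mpr hh0, ?_⟩
    rw [he]
    show closedPoint R ∈ Set.range (PrimeSpectrum.comap (Ideal.Quotient.mk (maximalIdeal R)))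
    rw [range_comap_of_surjective _ _ Ideal.Quotient.mk_surjective, Ideal.mk_ker]
    exact fun _ h => h
  have hu : TorsionLike u := Category.id_comp u ▸ (torsionLike_id hH).postcomp u
  obtain ⟨W, n, hW, hn, hpow⟩ := hu h0
  refine ⟨W, n, hh0.mem_open W.2 hW, hpow, hh0.mem_open (u.left ⁻¹ᵁ powLocus G n).2 ?_⟩
  show u.left h0 ∈ powLocus G n
  obtain ⟨z, hz⟩ : h0 ∈ Set.range (res i H).left := by
    obtain ⟨b, hb⟩ := hh0i
    obtain ⟨z, hz, -⟩ := Scheme.Pullback.exists_preimage_pullback (f := H.hom) (g := i) h0 b hb.symm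
    refine ⟨z, ?_⟩
    rw [res_left]
    exact hz
  have hcu : IsCentralPt G (res i H ≫ u) := by
    rw [(map_eq_iff i _ u).mp rfl]
    exact isCentralPt_a₀ i _ hc₀
  have := mem_powLocus hcu z (n := n)
    (natCast_ne_zero_of_ringHom ((res i H).left.residueFieldMap z).hom (hn _ (hz ▸ hW)))
  rwa [Over.comp_left, Scheme.Hom.comp_apply, hz] at this

end GrothLib.CentralTor14
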