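import Groth.Agent.Lib.AbMul.PowUnit
import Groth.Agent.Lib.FibreLocus.Hom
import Groth.Agent.Lib.LocProp.BaseChangeDescent
import Groth.Agent.Lib.LocProp.Descend
import Groth.Agent.Lib.DiagGrp.Points

/-!
The power map is etale near central points of order invertible in the residue field.
-/

universe u

open CategoryTheory CategoryTheory.Limits MonoidalCategory CartesianMonoidalCategory MonObj GrpObj
open AlgebraicGeometry

set_option backward.isDefEq.respectTransparency false

namespace GrothLib.CentralTor14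

variable {S : Scheme.{u}}

theorem map_pow' {S' : Scheme.{u}} (t : S' ⟶ S) (G : Over S) [GrpObj G] (n : ℕ) :
    (Over.pullback t).map (𝟙 G ^ n) = 𝟙 (Red.bc t G) ^ n := by
  rw [← (Over.pullback t).map_id]
  exact map_pow ((Over.pullback t).homMonoidHom (X := G) (M := G)) _ n

theorem bcPoint_left_fst {S' : Scheme.{u}} (t : S' ⟶ S) (G : Over S) (T : Over S') (g : (Over.map t).obj T ⟶ G) :
    (DiagGrp.bcPoint t G T g).left ≫ pullback.fst G.hom t = g.left := by
  have h := ((Over.mapPullbackAdj t).homEquiv T G).symm_apply_apply g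
  rw [Adjunction.homEquiv_counit] at h
  exact congrArg CommaMorphism.left h

/-- The property "etale near a point" for an endomorphism over the base, from the same on the fibre. -/
theorem etale_nhd_of_fibre {X Y : Scheme.{u}} (f : X ⟶ Y) (g : Y ⟶ S) [LocallyOfFinitePresentation (f ≫ g)]
    [Flat (f ≫ g)] [LocallyOfFiniteType g] (x : X)
    (h : ∃ W : ((f ≫ g).fiber (g (f x))).Opens, (f ≫ g).asFiber x ∈ W ∧
      Etale (W.ι ≫ MoreMor.fiberMap f g (g (f x)))) :
    ∃ U : X.Opens, x ∈ U ∧ Etale (U.ι ≫ f) := by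
  haveI : LocallyOfFinitePresentation f := DiagGrp.lfp_of_comp_of_lft f g inferInstance inferInstance
  obtain ⟨W, hxW, hW⟩ := h
  let m := MoreMor.fiberMap f g (g (f x))
  haveI : LocallyOfFiniteType (m ≫ g.fiberToSpecResidueField (g (f x))) := by
    have : m ≫ g.fiberToSpecResidueField (g (f x)) = (f ≫ g).fiberToSpecResidueField (g (f x)) :=
      pullback.lift_snd _ _ _
    rw [this]
    exact MorphismProperty.pullback_snd _ _ inferInstance
  haveI : LocallyOfFiniteType m := locallyOfFiniteType_of_comp m (g.fiberToSpecResidueField _)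
  haveI := hW
  obtain ⟨hfl, hun⟩ : (m.stalkMap ((f ≫ g).asFiber x)).hom.Flat ∧
      (m.stalkMap ((f ≫ g).asFiber x)).hom.FormallyUnramified :=
    ⟨LocProp.flat_descends W.ι m ⟨_, hxW⟩ (Flat.stalkMap _ _) (Flat.stalkMap _ _),
      LocProp.formallyUnramified_descends W.ι m ⟨_, hxW⟩ (Flat.stalkMap _ _) (FormallyUnramified.stalkMap _ _)⟩
  refine (LocProp.etale_nhd_iff f x).mpr ⟨?_, ?_⟩
  · refine ((FibreFlat.critere_par_fibres f g x).mp ⟨Flat.stalkMap (f ≫ g) x, ?_⟩).2
    rw [← FibreFlat.flat_fiberMap_stalkMap_iff f g (g (f x)) ((f ≫ g).asFiber x) x ((f ≫ g).fiberι_asFiber x)]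
    exact hfl
  · exact FibreFlat.formallyUnramified_stalkMap_of_fibrewise f g x
      ((f ≫ g).asFiber x) ((f ≫ g).fiberι_asFiber x) hun

/-- A morphism over the base is etale near a point if its base change to the residue field of the
base is. -/
theorem etale_nhd_of_residue {X Y : Scheme.{u}} (f : X ⟶ Y) (g : Y ⟶ S) (gX : X ⟶ S) (hgX : f ≫ g = gX)
    [LocallyOfFinitePresentation gX] [Flat gX] [LocallyOfFiniteType g] (x : X)
    (h : ∃ W : (pullback gX (S.fromSpecResidueField (gX x))).Opens,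
      (∃ z ∈ W, pullback.fst gX (S.fromSpecResidueField (gX x)) z = x) ∧
        Etale (W.ι ≫ ((Over.pullback (S.fromSpecResidueField (gX x))).map
          (Over.homMk f hgX : Over.mk gX ⟶ Over.mk g)).left)) :
    ∃ U : X.Opens, x ∈ U ∧ Etale (U.ι ≫ f) := by
  subst hgX
  obtain ⟨W, ⟨z, hzW, hz⟩, hW⟩ := h
  have hz' : z = (f ≫ g).asFiber x :=
    ((f ≫ g).fiberι ((f ≫ g) x)).injective (hz.trans ((f ≫ g).fiberι_asFiber x).symm)
  have hm : ((Over.pullback (S.fromSpecResidueField ((f ≫ g) x))).map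
      (Over.homMk f rfl : Over.mk (f ≫ g) ⟶ Over.mk g)).left = MoreMor.fiberMap f g ((f ≫ g) x) := by
    apply pullback.hom_ext
    · exact (pullback.lift_fst _ _ _).trans (pullback.lift_fst _ _ _).symm
    · exact (pullback.lift_snd _ _ _).trans (pullback.lift_snd _ _ _).symm
  rw [hm] at hW
  exact etale_nhd_of_fibre f g x ⟨W, hz' ▸ hzW, hW⟩

variable (G : Over S) [GrpObj G]

/-- A point with values in a field commuting with all points over it. -/
def IsCentralPt {T : Over S} (y : T ⟶ G) : Prop :=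
  ∀ (X : Over S) (p : X ⟶ T) (g : X ⟶ G), (p ≫ y) * g = g * (p ≫ y)

/-- Over a field the power map is etale near every central point with values in an extension. -/
theorem etale_nhd_field {K : Type u} [Field K] (G : Over (Spec (CommRingCat.of K))) [GrpObj G]
    [LocallyOfFiniteType G.hom] (n : ℕ) {L : Type u} [Field L] (hn : (n : L) ≠ 0)
    (t : Spec (CommRingCat.of L) ⟶ Spec (CommRingCat.of K)) (y : Over.mk t ⟶ G) (hy : IsCentralPt G y)
    (pt : ↥(Spec (CommRingCat.of L))) :
    ∃ U : G.left.Opens, y.left pt ∈ U ∧ Etale (U.ι ≫ (𝟙 G ^ n).left) := by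
  haveI : LocallyOfFiniteType (Red.bc t G).hom := inferInstanceAs (LocallyOfFiniteType (pullback.snd G.hom t))
  let g₀ : (Over.map t).obj (𝟙_ (Over (Spec (CommRingCat.of L)))) ⟶ G :=
    (Over.homMk (𝟙 _) rfl : (Over.map t).obj (𝟙_ (Over (Spec (CommRingCat.of L)))) ⟶ Over.mk t) ≫ y
  let y' : 𝟙_ (Over (Spec (CommRingCat.of L))) ⟶ Red.bc t G := DiagGrp.bcPoint t G _ g₀
  have hc : ∀ (X : Over (Spec (CommRingCat.of L))) (x : X ⟶ Red.bc t G),
      (toUnit X ≫ y') * x = x * (toUnit X ≫ y') := fun X x => by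
    obtain ⟨a, rfl⟩ := (DiagGrp.bcPointMulEquiv t G X).surjective x
    have key : toUnit X ≫ y' = DiagGrp.bcPointMulEquiv t G X ((Over.map t).map (toUnit X) ≫ g₀) :=
      (DiagGrp.bcPoint_comp t (toUnit X) g₀).symm
    rw [key, ← map_mul, ← map_mul]
    refine congrArg _ ?_
    have := hy _ ((Over.map t).map (toUnit X) ≫ Over.homMk (𝟙 _) rfl) a
    simpa only [g₀, Category.assoc] using this
  obtain ⟨UL, hUL, hUet⟩ := GrothLib.AbMul.exists_etale_pow_central (Red.bc t G) n hn y' hc
  let f : G.left ⟶ G.left := (𝟙 G ^ n).left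
  haveI : LocallyOfFiniteType (f ≫ G.hom) := by rw [Over.w]; infer_instance
  haveI : LocallyOfFiniteType f := locallyOfFiniteType_of_comp f G.hom
  haveI : LocallyOfFinitePresentation (f ≫ G.hom) := by rw [Over.w]; infer_instance
  haveI : LocallyOfFinitePresentation f := DiagGrp.lfp_of_comp_of_lft f G.hom inferInstance inferInstance
  have hsq : IsPullback (pullback.fst G.hom t) ((Over.pullback t).map (𝟙 G ^ n)).left f (pullback.fst G.hom t) :=
    (FibreLocus.isPullback_map_left (𝟙 G ^ n) t).flip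
  let z := y'.left pt
  let e := hsq.isoPullback
  have hz : pullback.fst G.hom t z = y.left pt := by
    refine (Scheme.Hom.comp_apply _ _ _).symm.trans ((congrArg (fun h : Spec (CommRingCat.of L) ⟶ G.left => h pt)
      (bcPoint_left_fst t G _ g₀)).trans ?_)
    exact congrArg (fun h : Spec (CommRingCat.of L) ⟶ G.left => h pt) (Category.id_comp y.left)
  haveI : Flat t := by
    obtain ⟨φ, rfl⟩ : ∃ φ, Spec.map φ = t := ⟨Spec.preimage t, Spec.map_preimage t⟩
    rw [HasRingHomProperty.Spec_iff (P := @Flat)]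
    letI := φ.hom.toAlgebra
    exact (inferInstance : Module.Flat K L)
  haveI : Flat (pullback.fst G.hom t) := MorphismProperty.pullback_fst _ _ inferInstance
  have := LocProp.etale_nhd_of_baseChange f (pullback.fst G.hom t) (e.hom z) (Flat.stalkMap _ _)
    ⟨e.inv ⁻¹ᵁ UL, ?_, ?_⟩
  · obtain ⟨U, hU, hU'⟩ := this
    refine ⟨U, ?_, hU'⟩
    rwa [← Scheme.Hom.comp_apply, hsq.isoPullback_hom_fst, hz] at hU
  · show e.inv (e.hom z) ∈ UL
    rw [← Scheme.Hom.comp_apply, Iso.hom_inv_id]
    exact hUL ⟨pt, rfl⟩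
  · haveI : Etale (UL.ι ≫ (𝟙 (Red.bc t G) ^ n).left) := hUet
    have : (e.inv ⁻¹ᵁ UL).ι ≫ pullback.snd f (pullback.fst G.hom t) =
        (e.inv ∣_ UL) ≫ UL.ι ≫ (𝟙 (Red.bc t G) ^ n).left := by
      rw [morphismRestrict_ι_assoc, ← map_pow', hsq.isoPullback_inv_snd]
    rw [this]
    infer_instance

theorem exists_factor_residue {L : Type u} [Field L] (s : S) (t : Spec (CommRingCat.of L) ⟶ S)
    (hs : t (IsLocalRing.closedPoint L) = s) :
    ∃ t' : Spec (CommRingCat.of L) ⟶ Spec (S.residueField s), t' ≫ S.fromSpecResidueField s = t := by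
  obtain ⟨⟨s', φ⟩, rfl⟩ : ∃ p, (Scheme.SpecToEquivOfField L S).symm p = t :=
    ⟨_, (Scheme.SpecToEquivOfField L S).symm_apply_apply t⟩
  obtain rfl : s' = s := by
    rw [← hs]
    exact (Scheme.fromSpecResidueField_apply s' _).symm
  exact ⟨Spec.map φ, rfl⟩

/-- The power map is etale near central points of order prime to the residue characteristic. -/
theorem etale_nhd [Flat G.hom] [LocallyOfFinitePresentation G.hom] (n : ℕ) {L : Type u} [Field L] (hn : (n : L) ≠ 0)
    (t : Spec (CommRingCat.of L) ⟶ S) (y : Over.mk t ⟶ G) (hy : IsCentralPt G y) (pt : ↥(Spec (CommRingCat.of L))) :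
    ∃ U : G.left.Opens, y.left pt ∈ U ∧ Etale (U.ι ≫ (𝟙 G ^ n).left) := by
  let x := y.left pt
  let K : Type u := S.residueField (G.hom x)
  let k : Spec (CommRingCat.of K) ⟶ S := S.fromSpecResidueField (G.hom x)
  obtain ⟨t', ht'⟩ : ∃ t' : Spec (CommRingCat.of L) ⟶ Spec (CommRingCat.of K), t' ≫ k = t := by
    have hs : t (IsLocalRing.closedPoint L) = G.hom x := by
      show _ = G.hom (y.left pt)
      rw [← Scheme.Hom.comp_apply, Over.w y, Subsingleton.elim pt (IsLocalRing.closedPoint L)]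
      rfl
    exact exists_factor_residue _ t hs
  haveI : LocallyOfFiniteType (Red.bc k G).hom := inferInstanceAs (LocallyOfFiniteType (pullback.snd G.hom k))
  let a : (Over.map k).obj (Over.mk t') ⟶ G :=
    (Over.homMk (𝟙 _) (by simpa using ht'.symm) : (Over.map k).obj (Over.mk t') ⟶ Over.mk t) ≫ y
  let y' : Over.mk t' ⟶ Red.bc k G := DiagGrp.bcPoint k G _ a
  have hy' : IsCentralPt (Red.bc k G) y' := fun X p g => by
    obtain ⟨b, rfl⟩ := (DiagGrp.bcPointMulEquiv k G X).surjective g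
    have key : p ≫ y' = DiagGrp.bcPointMulEquiv k G X ((Over.map k).map p ≫ a) := (DiagGrp.bcPoint_comp k p a).symm
    rw [key, ← map_mul, ← map_mul]
    refine congrArg _ ?_
    simpa only [a, Category.assoc] using hy _ ((Over.map k).map p ≫ Over.homMk (𝟙 _) _) b
  obtain ⟨W, hW, hW'⟩ := etale_nhd_field (Red.bc k G) n hn t' y' hy' pt
  refine etale_nhd_of_residue (𝟙 G ^ n).left G.hom G.hom (Over.w _) x ⟨W, ⟨y'.left pt, hW, ?_⟩, ?_⟩
  · change pullback.fst G.hom k (y'.left pt) = x
    refine (Scheme.Hom.comp_apply _ _ _).symm.trans ((congrArg (fun h : Spec (CommRingCat.of L) ⟶ G.left => h pt)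
      (bcPoint_left_fst k G _ a)).trans ?_)
    exact congrArg (fun h : Spec (CommRingCat.of L) ⟶ G.left => h pt) (Category.id_comp y.left)
  · have : (Over.homMk (𝟙 G ^ n).left (Over.w _) : Over.mk G.hom ⟶ Over.mk G.hom) = 𝟙 G ^ n := Over.OverMorphism.ext rfl
    rw [← map_pow' k G n] at hW'
    exact hW'

end GrothLib.CentralTor14
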