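import Groth.Agent.Lib.CentralTor14.Core
import Groth.Agent.Lib.MultHopf14.FgCharts
import Groth.Agent.Lib.GeomRed6.Smooth
import Groth.Agent.Lib.LocProp.QuasiFinite

/-!
Finite smooth groups with diagonalisable charts are locally killed by an integer invertible on the base.
-/

universe u

open CategoryTheory CategoryTheory.Limits MonoidalCategory CartesianMonoidalCategory MonObj GrpObj
open AlgebraicGeometry

set_option backward.isDefEq.respectTransparency false

namespace GrothLib.CentralTor14

open GrothLib.DiagGrp GrothLib.MultDef14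

/-- A finite smooth group algebra over a field has finite group of order invertible in the field. -/
theorem card_ne_zero (k : Type u) [Field k] (M : Type) [CommGroup M] [Module.Finite k (MonoidAlgebra k M)]
    [Algebra.Smooth k (MonoidAlgebra k M)] : Finite M ∧ (Nat.card M : k) ≠ 0 := by
  classical
  haveI hfin : Finite M := Module.Finite.finite_basis (MonoidAlgebra.basis M k)
  refine ⟨hfin, fun h => ?_⟩
  haveI := GeomRed6.isReduced_of_smooth_field k (MonoidAlgebra k M)
  let p := ringChar k
  haveI : CharP k p := ringChar.charP k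
  have hp : p.Prime := by
    rcases CharP.char_is_prime_or_zero k p with hp | hp
    · exact hp
    · exfalso
      haveI : CharP k 0 := hp ▸ inferInstance
      haveI : CharZero k := CharP.charP_to_charZero k
      exact Nat.card_pos.ne' (by exact_mod_cast h)
  haveI : Fact p.Prime := ⟨hp⟩
  obtain ⟨m, hm⟩ := exists_prime_orderOf_dvd_card' (G := M) p ((CharP.cast_eq_zero_iff k p _).mp h)
  haveI : CharP (MonoidAlgebra k M) p :=
    charP_of_injective_algebraMap (algebraMap k (MonoidAlgebra k M)).injective p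
  have h0 : (MonoidAlgebra.of k M m - 1) ^ p = 0 := by
    rw [sub_pow_char, ← map_pow, one_pow, ← hm, pow_orderOf_eq_one, map_one, sub_self]
  have h1 : MonoidAlgebra.of k M m = 1 := sub_eq_zero.mp (IsReduced.eq_zero _ ⟨p, h0⟩)
  rw [← map_one (MonoidAlgebra.of k M)] at h1
  rw [MonoidAlgebra.of_injective h1, orderOf_one] at hm
  exact hp.one_lt.ne hm

theorem pow_diag_eq_one (k : Type u) [CommRing k] (M : Type) [AddCommGroup M] [Finite M] :
    (𝟙 (Red.diag k M)) ^ Nat.card M = 1 := by
  obtain ⟨χ, hχ⟩ : ∃ χ, specPoint k M (MonoidAlgebra k (Multiplicative M)) χ = 𝟙 (Red.diag k M) :=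
    (specPoint k M (MonoidAlgebra k (Multiplicative M))).surjective _
  rw [← hχ, ← map_pow]
  refine (congrArg _ (MonoidHom.ext fun m => ?_)).trans (map_one _)
  rw [MonoidHom.pow_apply, MonoidHom.one_apply, ← map_pow, Nat.card_congr Multiplicative.ofAdd, pow_card_eq_one',
    map_one]

/-- Finite smooth morphisms are unramified. -/
theorem formallyUnramified_of_finite_smooth {X Y : Scheme.{u}} (f : X ⟶ Y) [IsFinite f] [Smooth f] :
    FormallyUnramified f := by
  rw [IsZariskiLocalAtTarget.iff_of_openCover (P := @FormallyUnramified) Y.affineCover]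
  intro i
  let g := pullback.snd f (Y.affineCover.f i)
  haveI : IsFinite g := MorphismProperty.pullback_snd _ _ ‹IsFinite f›
  haveI : Smooth g := MorphismProperty.pullback_snd _ _ ‹Smooth f›
  haveI : IsAffine (pullback f (Y.affineCover.f i)) := isAffine_of_isAffineHom g
  change FormallyUnramified g
  rw [HasRingHomProperty.iff_of_isAffine (P := @FormallyUnramified)]
  have hsm : g.appTop.hom.Smooth := (HasRingHomProperty.iff_of_isAffine (P := @Smooth)).mp ‹_›
  have hfin : g.appTop.hom.Finite := ((HasAffineProperty.iff_of_isAffine (P := @IsFinite)).mp ‹_›).2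
  algebraize [g.appTop.hom]
  show Algebra.FormallyUnramified _ _
  rw [← Algebra.unramifiedLocus_eq_univ_iff, Set.eq_univ_iff_forall]
  intro q
  haveI := LocProp.isEtaleAt_of_isSmoothAt_of_quasiFiniteAt (R := Γ(Y.affineCover.X i, ⊤)) q.asIdeal
  exact Algebra.FormallyEtale.iff_formallyUnramified_and_formallySmooth.mp this |>.1

variable {S : Scheme.{u}}

theorem eq_one_of_mono {K K' : Over S} [GrpObj K] [GrpObj K'] (u : K ⟶ K') [IsMonHom u] [Mono u] (n : ℕ)
    (h : (𝟙 K') ^ n = 1) : (𝟙 K) ^ n = 1 := by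
  let Φ : (K ⟶ K) →* (K ⟶ K') :=
    { toFun := fun x => x ≫ u
      map_one' := by rw [Hom.one_def, Category.assoc, IsMonHom.one_hom, ← Hom.one_def]
      map_mul' := fun x y => MonObj.mul_comp x y u }
  rw [← cancel_mono u]
  show Φ (𝟙 _ ^ n) = Φ 1
  rw [map_pow, map_one, show Φ (𝟙 K) = u ≫ 𝟙 _ from (Category.id_comp u).trans (Category.comp_id u).symm,
    pow_comp, h, MonObj.comp_one]

/-- A chart at a field-valued point gives an exponent there. -/
theorem pow_eq_one_of_chart {H : Over S} [GrpObj H] [IsFinite H.hom] [Smooth H.hom] {k : Type u} [Field k]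
    (f : Spec (CommRingCat.of k) ⟶ S) {M' : Type} [AddCommGroup M']
    (e' : Grp.mk (Red.bc f H) ≅ Grp.mk (Red.DS (Spec (CommRingCat.of k)) M')) :
    ∃ n : ℕ, (n : k) ≠ 0 ∧ (Over.pullback f).map (𝟙 H ^ n) = (Over.pullback f).map 1 := by
  haveI : IsFinite (Red.bc f H).hom := MorphismProperty.pullback_snd _ _ ‹IsFinite H.hom›
  haveI : Smooth (Red.bc f H).hom := MorphismProperty.pullback_snd _ _ ‹Smooth H.hom›
  haveI := isIso_diagToDS k M'
  haveI := isMonHom_diagToDS k M'
  let iD : Grp.mk (Red.diag k M') ≅ Grp.mk (Red.DS (Spec (CommRingCat.of k)) M') :=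
    Grp.mkIso (asIso (diagToDS k M')) (IsMonHom.one_hom _) (IsMonHom.mul_hom _)
  let E : Grp.mk (Red.bc f H) ≅ Grp.mk (Red.diag k M') := e' ≪≫ iD.symm
  let i : Red.bc f H ≅ Red.diag k M' := (Grp.forget _).mapIso E
  haveI : IsMonHom i.hom := E.hom.hom.isMonHom_hom
  haveI : IsIso i.inv.left := inferInstanceAs (IsIso ((Over.forget _).mapIso i).inv)
  have hf : IsFinite (Red.diag k M').hom := by
    rw [← Over.w i.inv]
    exact (MorphismProperty.cancel_left_of_respectsIso @IsFinite _ _).mpr inferInstance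
  have hs : Smooth (Red.diag k M').hom := by
    rw [← Over.w i.inv]
    exact (MorphismProperty.cancel_left_of_respectsIso @Smooth _ _).mpr inferInstance
  haveI : Module.Finite k (MonoidAlgebra k (Multiplicative M')) := by
    have h : IsFinite (Spec.map (CommRingCat.ofHom (algebraMap k (MonoidAlgebra k (Multiplicative M'))))) := hf
    rw [IsFinite.SpecMap_iff, CommRingCat.hom_ofHom, RingHom.finite_algebraMap] at h
    exact h
  haveI : Algebra.Smooth k (MonoidAlgebra k (Multiplicative M')) := by
    have h : Smooth (Spec.map (CommRingCat.ofHom (algebraMap k (MonoidAlgebra k (Multiplicative M'))))) := hs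
    rw [HasRingHomProperty.Spec_iff (P := @Smooth), CommRingCat.hom_ofHom, RingHom.smooth_algebraMap] at h
    exact h
  obtain ⟨hfin', hcard⟩ := card_ne_zero k (Multiplicative M')
  haveI : Finite M' := hfin'
  rw [← Nat.card_congr Multiplicative.ofAdd] at hcard
  let n := Nat.card M'
  refine ⟨n, hcard, ?_⟩
  rw [map_pow', CategoryTheory.Functor.map_one]
  exact eq_one_of_mono i.hom n (pow_diag_eq_one k M')

/-- The identity of a finite smooth group with diagonalisable charts is locally torsion. -/
theorem torsionLike_id {H : Over S} [GrpObj H] [IsFinite H.hom] [Smooth H.hom]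
    {Q : ∀ (M : Type), AddCommGroup M → Prop} (hH : HasChartsFpqc Q H) : TorsionLike (𝟙 H) := by
  intro z
  obtain ⟨S', π, -, hsurj, -, hloc⟩ := hH
  obtain ⟨s', hs'⟩ := hsurj.surj (H.hom z)
  obtain ⟨U, hU, M, inst, -, ⟨e⟩⟩ := hloc s'
  -- the fibre over a point of the chart
  let k : Type u := (U : Scheme.{u}).residueField ⟨s', hU⟩
  let g : Spec (CommRingCat.of k) ⟶ (U : Scheme.{u}) := (U : Scheme.{u}).fromSpecResidueField ⟨s', hU⟩
  let f : Spec (CommRingCat.of k) ⟶ S := g ≫ U.ι ≫ π
  obtain ⟨M', inst', hMM, ⟨e'⟩⟩ : HasChart (fun N _ => N = M) H f :=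
    HasChart.precomp (Q := fun N _ => N = M) ⟨M, inst, rfl, ⟨e⟩⟩ g f rfl
  obtain ⟨n, hcard, hn⟩ := pow_eq_one_of_chart f e'
  -- the equaliser
  let a := (𝟙 H ^ n).left
  let b := (1 : H ⟶ H).left
  haveI := formallyUnramified_of_finite_smooth H.hom
  let v : H.left ⟶ pullback H.hom H.hom := pullback.lift a b (by rw [Over.w, Over.w])
  let E : H.left.Opens := v ⁻¹ᵁ (pullback.diagonal H.hom).opensRange
  have hW : ∀ h : H.left, H.hom h = H.hom z → h ∈ E := fun h hh => by
    obtain ⟨w, hw₁, hw₂⟩ := Scheme.Pullback.exists_preimage_pullback (f := H.hom) (g := f) h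
      (IsLocalRing.closedPoint k) (by
        rw [hh, ← hs']
        show _ = π (U.ι (g (IsLocalRing.closedPoint k)))
        exact congrArg (fun u : (U : Scheme.{u}) => π (U.ι u))
          (Scheme.fromSpecResidueField_apply (X := (U : Scheme.{u})) ⟨s', hU⟩ (IsLocalRing.closedPoint k)).symm)
    have hab : pullback.fst H.hom f ≫ a = pullback.fst H.hom f ≫ b := by
      have := congrArg (fun m => m.left ≫ pullback.fst H.hom f) hn
      exact (pullback.lift_fst _ _ _).symm.trans (this.trans (pullback.lift_fst _ _ _))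
    refine ⟨(pullback.fst H.hom f ≫ a) w, ?_⟩
    rw [← hw₁, ← Scheme.Hom.comp_apply, ← Scheme.Hom.comp_apply,
      show pullback.fst H.hom f ≫ v = (pullback.fst H.hom f ≫ a) ≫ pullback.diagonal H.hom from by
        apply pullback.hom_ext <;> simp [v, hab]]
  let Vs : S.Opens := ⟨(H.hom '' ((E : Set H.left)ᶜ))ᶜ,
    (H.hom.isClosedMap _ E.2.isClosed_compl).isOpen_compl⟩
  let N : H.left.Opens := H.left.basicOpen (U := ⊤) (n : Γ(H.left, ⊤))
  have hN : ∀ w : H.left, w ∈ N ↔ (n : H.left.residueField w) ≠ 0 := fun w => by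
    rw [← H.left.evaluation_ne_zero_iff_mem_basicOpen (U := ⊤) w trivial, map_natCast]
  let W : H.left.Opens := H.hom ⁻¹ᵁ Vs ⊓ N
  have hzs : z ∈ N := by
    rw [hN]
    intro h0
    obtain ⟨w, hw₁, hw₂⟩ := Scheme.Pullback.exists_preimage_pullback (f := H.hom) (g := f) z
      (IsLocalRing.closedPoint k) (by
        rw [← hs']
        show _ = π (U.ι (g (IsLocalRing.closedPoint k)))
        exact congrArg (fun u : (U : Scheme.{u}) => π (U.ι u))
          (Scheme.fromSpecResidueField_apply (X := (U : Scheme.{u})) ⟨s', hU⟩ (IsLocalRing.closedPoint k)).symm)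
    subst hw₁
    let φ : k →+* (pullback H.hom f).residueField w := ((Scheme.ΓSpecIso (CommRingCat.of k)).inv ≫
      (pullback.snd H.hom f).appTop ≫ (pullback H.hom f).evaluation ⊤ w trivial).hom
    have h1 := congrArg ((pullback.fst H.hom f).residueFieldMap w).hom h0
    rw [map_natCast, map_zero, ← map_natCast φ] at h1
    exact hcard (φ.injective (h1.trans (map_zero φ).symm))
  refine ⟨W, n, ⟨fun hz => ?_, hzs⟩, fun w hw => (hN w).mp hw.2, ?_⟩
  · obtain ⟨h, hh, he⟩ := hz
    exact hh (hW h he)
  · rw [Category.comp_id]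
    apply Over.OverMorphism.ext
    rw [pow_left]
    have hr : Set.range (W.ι ≫ v) ⊆ Set.range (pullback.diagonal H.hom) := by
      rintro _ ⟨w, rfl⟩
      by_contra hc
      exact w.2.1 ⟨w.1, fun he => hc he, rfl⟩
    have h1 := IsOpenImmersion.lift_fac (pullback.diagonal H.hom) (W.ι ≫ v) hr
    have e1 := congrArg (· ≫ pullback.fst H.hom H.hom) h1
    have e2 := congrArg (· ≫ pullback.snd H.hom H.hom) h1
    simp only [Category.assoc, pullback.diagonal_fst, pullback.diagonal_snd, Category.comp_id, v,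
      pullback.lift_fst, pullback.lift_snd] at e1 e2
    show W.ι ≫ (𝟙 H ^ n).left = _
    rw [show W.ι ≫ (𝟙 H ^ n).left = W.ι ≫ b from e1.symm.trans e2, show b = H.hom ≫ η[H].left from one_left, one_left]
    rfl

end GrothLib.CentralTor14
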