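import Groth.Agent.Lib.CentralTor14.Exponent

/-!
Central homomorphisms from finite smooth groups with diagonalisable charts lift uniquely along
thickenings.
-/

universe u

open CategoryTheory CategoryTheory.Limits MonoidalCategory CartesianMonoidalCategory MonObj GrpObj
open AlgebraicGeometry

set_option backward.isDefEq.respectTransparency false

namespace GrothLib.CentralTor14

open GrothLib.DiagGrp (bcPoint bcPointMulEquiv bcPoint_comp bcPoint_comp_right HasChartsFpqc)

variable {S S₀ : Scheme.{u}} (i : S₀ ⟶ S)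

/-- The counit: the restriction of an object mapping to it. -/
noncomputable def res (Z : Over S) : (Over.map i).obj (Red.bc i Z) ⟶ Z :=
  (bcPoint i Z (Red.bc i Z)).symm (𝟙 _)

theorem bcPoint_res {Z Y : Over S} (f : Z ⟶ Y) :
    bcPoint i Y (Red.bc i Z) (res i Z ≫ f) = (Over.pullback i).map f := by
  rw [bcPoint_comp_right, res, Equiv.apply_symm_apply, Category.id_comp]

theorem res_comp_eq_iff {Z Y : Over S} (f g : Z ⟶ Y) :
    res i Z ≫ f = res i Z ≫ g ↔ (Over.pullback i).map f = (Over.pullback i).map g := by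
  rw [← (bcPoint i Y _).apply_eq_iff_eq, bcPoint_res, bcPoint_res]

theorem res_naturality {Z Y : Over S} (f : Z ⟶ Y) :
    res i Z ≫ f = (Over.map i).map ((Over.pullback i).map f) ≫ res i Y := by
  apply (bcPoint i Y _).injective
  rw [bcPoint_res, bcPoint_comp, res, Equiv.apply_symm_apply, Category.comp_id]

theorem res_left (Z : Over S) : (res i Z).left = pullback.fst Z.hom i := by
  rw [← bcPoint_left_fst i Z _ (res i Z), res, Equiv.apply_symm_apply]
  exact Category.id_comp _

/-- Every object over the closed part comes from there. -/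
noncomputable def descIso {Z : Over S₀} {X : Over S} (p : X ⟶ (Over.map i).obj Z) :
    (Over.map i).obj (Over.mk (p.left ≫ Z.hom)) ≅ X :=
  Over.isoMk (Iso.refl _) (by
    change 𝟙 _ ≫ X.hom = (p.left ≫ Z.hom) ≫ i
    rw [Category.id_comp, Category.assoc]
    exact (Over.w p).symm)

/-- The point over the closed part of a morphism into an object coming from there. -/
noncomputable def descPt {Z : Over S₀} {X : Over S} (p : X ⟶ (Over.map i).obj Z) :
    Over.mk (p.left ≫ Z.hom) ⟶ Z :=
  Over.homMk p.left rfl

theorem descIso_comp {Z : Over S₀} {X : Over S} (p : X ⟶ (Over.map i).obj Z) :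
    (descIso i p).hom ≫ p = (Over.map i).map (descPt i p) :=
  Over.OverMorphism.ext (Category.id_comp _)

variable {H G : Over S} [GrpObj H] [GrpObj G] (u₀ : Red.bc i H ⟶ Red.bc i G) [IsMonHom u₀]

/-- The restriction of the sought homomorphism. -/
noncomputable def a₀ : (Over.map i).obj (Red.bc i H) ⟶ G := (bcPoint i G _).symm u₀

omit [GrpObj H] [GrpObj G] [IsMonHom u₀] in
theorem map_eq_iff (u : H ⟶ G) : (Over.pullback i).map u = u₀ ↔ res i H ≫ u = a₀ i u₀ := by
  rw [a₀, Equiv.eq_symm_apply, bcPoint_res]

omit [GrpObj H] [IsMonHom u₀] in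
theorem isCentralPt_a₀ (hc₀ : IsCentralPt (Red.bc i G) u₀) : IsCentralPt G (a₀ i u₀) := by
  intro X p g
  apply (cancel_epi (descIso i p).hom).mp
  rw [MonObj.comp_mul, MonObj.comp_mul, ← Category.assoc, descIso_comp]
  apply (bcPointMulEquiv i G _).injective
  rw [map_mul, map_mul]
  have h : bcPointMulEquiv i G _ ((Over.map i).map (descPt i p) ≫ a₀ i u₀) = descPt i p ≫ u₀ :=
    (bcPoint_comp i (descPt i p) (a₀ i u₀)).trans (by rw [a₀, Equiv.apply_symm_apply])
  rw [h]
  exact hc₀ _ (descPt i p) _

theorem torsionLike_a₀ (hH : TorsionLike (𝟙 H)) : TorsionLike (a₀ i u₀) := by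
  intro z
  have hj : TorsionLike (res i H) := Category.comp_id (res i H) ▸ hH.comp (res i H)
  obtain ⟨W, n, hz, hn, h⟩ := hj z
  refine ⟨W, n, hz, hn, ?_⟩
  let p := openIncl ((Over.map i).obj (Red.bc i H)) W
  apply (cancel_epi (descIso i p).hom).mp
  rw [MonObj.comp_one, ← pow_comp, ← Category.assoc, descIso_comp]
  have h' : ((Over.map i).map (descPt i p) ≫ res i H) ^ n = 1 := by
    rw [← descIso_comp, Category.assoc, pow_comp, h, MonObj.comp_one]
  apply (bcPointMulEquiv i G _).injective
  rw [map_pow, map_one]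
  have e₁ : bcPointMulEquiv i G _ ((Over.map i).map (descPt i p) ≫ a₀ i u₀) = descPt i p ≫ u₀ :=
    (bcPoint_comp i (descPt i p) (a₀ i u₀)).trans (by rw [a₀, Equiv.apply_symm_apply])
  have e₂ : bcPointMulEquiv i H _ ((Over.map i).map (descPt i p) ≫ res i H) = descPt i p :=
    (bcPoint_comp i (descPt i p) (res i H)).trans (by rw [res, Equiv.apply_symm_apply, Category.comp_id])
  have h2 : (descPt i p) ^ n = 1 := by rw [← e₂, ← map_pow, h', map_one]
  let Φ : (Over.mk (p.left ≫ (Red.bc i H).hom) ⟶ Red.bc i H) →* (Over.mk (p.left ≫ (Red.bc i H).hom) ⟶ Red.bc i G) :=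
    { toFun := fun f => f ≫ u₀
      map_one' := by rw [Hom.one_def, Category.assoc, IsMonHom.one_hom, ← Hom.one_def]
      map_mul' := fun f g => MonObj.mul_comp f g u₀ }
  rw [e₁]
  exact (map_pow Φ _ n).symm.trans ((congrArg Φ h2).trans Φ.map_one)

/-- Central homomorphisms out of finite smooth groups with diagonalisable charts lift uniquely along
surjective closed immersions of the base, into flat groups locally of finite presentation. -/
theorem exists_central_lift [IsClosedImmersion i] [Surjective i] [Flat G.hom] [LocallyOfFinitePresentation G.hom]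
    [IsFinite H.hom] [Smooth H.hom] {Q : ∀ (M : Type), AddCommGroup M → Prop} (hH : HasChartsFpqc Q H)
    (hc₀ : IsCentralPt (Red.bc i G) u₀) :
    ∃ u : H ⟶ G, IsMonHom u ∧ (Over.pullback i).map u = u₀ ∧ IsCentralPt G u ∧
      ∀ u' : H ⟶ G, IsMonHom u' → (Over.pullback i).map u' = u₀ → u' = u := by
  have hsurj : ∀ Z : Over S, Surjective (res i Z).left := fun Z => by
    rw [res_left]; exact MorphismProperty.pullback_fst _ _ ‹_›
  haveI := hsurj
  haveI : IsClosedImmersion (res i H).left := by
    rw [res_left]; exact MorphismProperty.pullback_fst _ _ ‹_›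
  have hT := torsionLike_id hH
  have hc := isCentralPt_a₀ i u₀ hc₀
  obtain ⟨u, htu, hu⟩ := exists_thick (res i H) (a₀ i u₀) hc (torsionLike_a₀ i u₀ hT)
  have hmap : (Over.pullback i).map u = u₀ := (map_eq_iff i u₀ u).mpr hu
  have hcr : ∀ {Z : Over S} (p : Z ⟶ H), IsCentralPt G (res i Z ≫ p ≫ u) := fun p => by
    rw [← Category.assoc, res_naturality, Category.assoc, hu]
    exact hc.comp _
  have hcu : IsCentralPt G u := by
    let a : H ⊗ G ⟶ G := fst H G ≫ u
    have hb : a = snd H G * a * (snd H G)⁻¹ := by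
      refine ext_thick (res i (H ⊗ G)) (htu.comp _) ((htu.comp _).conj _) ?_ (hcr _)
      rw [res_comp_eq_iff]
      change (Over.pullback i).homMonoidHom a = (Over.pullback i).homMonoidHom (snd H G * a * (snd H G)⁻¹)
      rw [map_mul, map_mul, map_inv]
      change (Over.pullback i).map a = (Over.pullback i).map (snd H G) * (Over.pullback i).map a * ((Over.pullback i).map (snd H G))⁻¹
      rw [show (Over.pullback i).map a = (Over.pullback i).map (fst H G) ≫ u₀ by rw [Functor.map_comp, hmap],
        ← hc₀ _ ((Over.pullback i).map (fst H G)) ((Over.pullback i).map (snd H G)), mul_inv_cancel_right]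
    intro X p g
    have h1 : a * snd H G = snd H G * a := by
      conv_lhs => rw [hb]
      rw [inv_mul_cancel_right]
    have h2 := congrArg (fun w => lift p g ≫ w) h1
    simpa only [a, MonObj.comp_mul, lift_fst_assoc, lift_snd] using h2
  have hmul : μ[H] ≫ u = (fst H H ≫ u) * (snd H H ≫ u) := by
    have hμ : μ[H] = fst H H * snd H H := by rw [Hom.mul_def, lift_fst_snd, Category.id_comp]
    refine ext_thick (res i (H ⊗ H)) (htu.comp _) ((htu.comp _).mul (htu.comp _) ?_) ?_ (hcr _)
    · exact hcu _ (fst H H) (snd H H ≫ u)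
    · rw [res_comp_eq_iff]
      change (Over.pullback i).map _ = (Over.pullback i).homMonoidHom _
      rw [map_mul]
      change (Over.pullback i).map (μ[H] ≫ u) = (Over.pullback i).map (fst H H ≫ u) * (Over.pullback i).map (snd H H ≫ u)
      rw [Functor.map_comp, Functor.map_comp, Functor.map_comp, hmap, ← MonObj.mul_comp _ _ u₀, hμ]
      congr 1
      exact map_mul (Over.pullback i).homMonoidHom _ _
  refine ⟨u, GrothLib.GrpSchField.isMonHom_of_mul _ ?_, hmap, hcu, fun u' hu' hm => ?_⟩
  · rw [hmul, Hom.mul_def]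
    congr 1
  · haveI := hu'
    have h' : res i H ≫ u' = a₀ i u₀ := (map_eq_iff i u₀ u').mp hm
    exact ext_thick (res i H) (Category.id_comp u' ▸ hT.postcomp u') htu (h'.trans hu.symm) (h'.symm ▸ hc)

end GrothLib.CentralTor14
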